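import Cfsg.Agent.Lib.PushUp.Jordan.Main

/-!
# A finite set of units closed under `a b a` is commutative

This is the finite case of the theorem that a special Jordan division algebra over a finite field is a field.
-/

set_option autoImplicit false

namespace Cfsg.Agent.JordanField

universe u

variable {E : Type u} [Ring E] [Finite E] {J : AddSubgroup E}

theorem Closed.mul_comm_mem (h : Closed J) {x y : E} (hx : x ∈ J) (hy : y ∈ J) : x * y = y * x := by
  classical
  rcases subsingleton_or_nontrivial E with hE | hE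
  · exact Subsingleton.elim _ _
  obtain ⟨L, hLJ, hLc, hLmax⟩ := h.exists_maximal
  suffices hall : ∀ z ∈ J, z ∈ L from hLc x (hall x hx) y (hall y hy)
  intro z hz
  by_contra hzL
  letI : Field L := (h.isField L hLJ hLc).toField
  letI := Fintype.ofFinite L
  let ι : L →+* E := L.subtype
  obtain ⟨g, hg⟩ := exists_gen L
  set p := ringChar L
  haveI : CharP L p := ringChar.charP L
  haveI : Fact p.Prime := ⟨CharP.char_is_prime L p⟩
  letI : Algebra (ZMod p) L := ZMod.algebra L p
  have hKJ : ∀ k, ι k ∈ J := fun k => hLJ k k.2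
  have hmax : ∀ w ∈ J, (∀ k, ι k * w = w * ι k) → ∃ k, w = ι k := fun w hw hwc =>
    ⟨⟨w, hLmax w hw fun k hk => hwc ⟨k, hk⟩⟩, rfl⟩
  have hcent : ∀ w, InSlot ι g g w → ∀ k, ι k * w = w * ι k := by
    intro w hw k
    by_cases h0 : w = 0
    · rw [h0, mul_zero, zero_mul]
    obtain ⟨τ, hτ, hτ'⟩ := exists_twist hg hw h0
    rw [hτ' w hw k, hg.hom_ext (τ := τ) (τ' := RingHom.id L) hτ k]
    rfl
  obtain ⟨c, hcg, hc0⟩ : ∃ c, c ≠ g ∧ part ι g c z ≠ 0 := by
    by_contra hcon
    simp only [not_exists, not_and, not_not] at hcon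
    have e : z = part ι g g z := by
      conv_lhs => rw [← sum_part ι g z]
      exact Finset.sum_eq_single g (fun c _ hc => hcon c hc) (fun hh => absurd (Finset.mem_univ g) hh)
    refine hzL (hLmax z hz fun k hk => ?_)
    have := hcent _ (part_mem ι g g z) ⟨k, hk⟩
    rwa [← e] at this
  obtain ⟨σ, hσ, hσt⟩ := exists_twist hg (part_mem ι g c z) hc0
  let σe : L ≃+* L := RingEquiv.ofBijective σ (Finite.injective_iff_bijective.1 σ.injective)
  let ρ : L →+* L := σe.symm.toRingHom
  have hl : ∀ k, ρ (σ k) = k := fun k => σe.symm_apply_apply k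
  have hr : ∀ k, σ (ρ k) = k := fun k => σe.apply_symm_apply k
  set c' := ρ g with hc'
  set a := part ι g c z with ha
  set b : E := if c' = c then 0 else part ι g c' z with hb
  have hab : (if c' = c then part ι g c z else part ι g c z + part ι g c' z) = a + b := by
    rw [hb]; split_ifs <;> simp [a]
  have hmem : a + b ∈ J := by rw [← hab]; exact pair_mem p hg h hKJ hz hσ (hr g)
  have htwA : ∀ k, a * ι k = ι (σ k) * a := hσt a (part_mem ι g c z)
  have htwB : ∀ k, b * ι k = ι (ρ k) * b := by
    intro k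
    rw [hb]
    split_ifs with e
    · rw [zero_mul, mul_zero]
    by_cases h0 : part ι g c' z = 0
    · rw [h0, zero_mul, mul_zero]
    obtain ⟨τ, hτ, hτ'⟩ := exists_twist hg (part_mem ι g c' z) h0
    rw [hτ' _ (part_mem ι g c' z) k, hg.hom_ext (τ := τ) (τ' := ρ) hτ k]
  have hmoves : σ g ≠ g := by rw [hσ]; exact hcg
  have hcond : c' = c ↔ σ (σ g) = g := by
    rw [hσ]
    exact ⟨fun e => by rw [← e, hc', hr], fun e => by rw [hc']; conv_lhs => rw [← e, hl]⟩
  have hprod : (∃ k, a * b = ι k) ∧ ∃ k, b * a = ι k := by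
    by_cases e : c' = c
    · have e0 : b = 0 := if_pos e
      exact ⟨⟨0, by rw [e0, mul_zero, map_zero]⟩, ⟨0, by rw [e0, zero_mul, map_zero]⟩⟩
    have hσσ : σ (σ g) ≠ g := fun e' => e (hcond.2 e')
    have key : ∀ k, ∃ k', ι (σ k) * (a * b) + ι (ρ k) * (b * a) = ι k' := by
      intro k
      set w := (a + b) * ι k * (a + b)
      have hw : w ∈ J := h.tri _ hmem _ (hKJ k)
      have hw1 : part ι g g w ∈ J := by
        have h1 := pair_mem p hg h hKJ hw (τ := RingHom.id L) (c := g) (c' := g) rfl rfl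
        rwa [if_pos rfl] at h1
      obtain ⟨k', hk'⟩ := hmax _ hw1 (hcent _ (part_mem ι g g w))
      refine ⟨k', ?_⟩
      have ew : w = ι (σ k) * (a * a) + ι (ρ k) * (b * b) + (ι (σ k) * (a * b) + ι (ρ k) * (b * a)) := by
        show (a + b) * ι k * (a + b) = _
        rw [add_mul a b (ι k), htwA, htwB]; noncomm_ring
      have sA : InSlot ι g (σ g) a := htwA g
      have sB : InSlot ι g (ρ g) b := htwB g
      have h1 : InSlot ι g (σ (σ g)) (ι (σ k) * (a * a)) := inSlot_smul ι g (InSlot.mul htwA sA sA) _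
      have h2 : InSlot ι g (ρ (ρ g)) (ι (ρ k) * (b * b)) := inSlot_smul ι g (InSlot.mul htwB sB sB) _
      have h3 : InSlot ι g (σ (ρ g)) (ι (σ k) * (a * b)) := inSlot_smul ι g (InSlot.mul htwA sB sA) _
      have h4 : InSlot ι g (ρ (σ g)) (ι (ρ k) * (b * a)) := inSlot_smul ι g (InSlot.mul htwB sA sB) _
      rw [hr] at h3
      rw [hl] at h4
      have h5 : ρ (ρ g) ≠ g := fun e' => hσσ (by conv_rhs => rw [← hr g, ← hr (ρ g), e'])
      rw [ew, part_add, part_add, part_add, part_of_slot ι g h1, part_of_slot ι g h2, part_of_slot ι g h3,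
        part_of_slot ι g h4, if_neg hσσ, if_neg h5, if_pos rfl, if_pos rfl, zero_add, zero_add] at hk'
      exact hk'
    obtain ⟨k1, hk1⟩ := key 1
    obtain ⟨k2, hk2⟩ := key g
    simp only [map_one, one_mul] at hk1
    have hne : σ g - ρ g ≠ 0 := sub_ne_zero.2 fun e' => hσσ (by rw [e', hr])
    have hu : a * b = ι ((σ g - ρ g)⁻¹ * (k2 - ρ g * k1)) := by
      have h0 : ι (σ g - ρ g) * (a * b) = ι (k2 - ρ g * k1) := by
        rw [map_sub ι (σ g), map_sub ι k2, map_mul, ← hk2, ← hk1, mul_add, sub_mul]; abel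
      rw [map_mul, ← h0, ← mul_assoc, ← map_mul, inv_mul_cancel₀ hne, map_one, one_mul]
    exact ⟨⟨_, hu⟩, ⟨k1 - (σ g - ρ g)⁻¹ * (k2 - ρ g * k1), by rw [map_sub, ← hu, ← hk1]; abel⟩⟩
  have P : Pair J ι g σ ρ a b :=
    { inv_left := hl
      inv_right := hr
      moves := hmoves
      twA := htwA
      twB := htwB
      a0 := hc0
      prodA := hprod.1
      prodB := hprod.2
      mem := hmem
      single := fun e => by
        have e0 : b = 0 := if_pos (hcond.2 e)
        rw [e0, mul_zero, zero_mul]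
        exact ⟨rfl, rfl⟩
      single' := fun e => Or.inl (if_pos (hcond.2 e))
      scal := fun hne l => by
        have hne' : σ c ≠ g := by rw [← hσ]; exact hne
        obtain ⟨v, hv, hvc⟩ := exists_val (p := p) hg hσ hne' l
        have h1 := opv_mem h hKJ hv hmem
        have sA : InSlot ι g (σ g) a := htwA g
        have sB : InSlot ι g (ρ g) b := htwB g
        have e : opv ι g v (a + b) = ι (v (σ g)) * a + ι (v (ρ g)) * b := by
          rw [opv]
          simp only [part_add, part_of_slot ι g sA, part_of_slot ι g sB, mul_add, mul_ite, mul_zero,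
            Finset.sum_add_distrib, Finset.sum_ite_eq, Finset.mem_univ, if_true]
        rw [e, hσ, hvc] at h1
        have e2 : v (ρ g) = ρ l := by
          rw [← hvc]
          exact vals_twist (p := p) rfl (by rw [← hσ, hl]) hv
        rwa [e2] at h1 }
  exact P.false hg h hKJ p hmax

end Cfsg.Agent.JordanField
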