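import Mathlib

/-!
# Sets of units closed under `a b a`

An additive subgroup `J` of a finite ring which contains `1`, is closed under `a b a` and whose nonzero members are
units. Commuting members multiply inside `J`, so a largest commutative subring inside `J` is a field equal to its own
centralizer in `J`.
-/

set_option autoImplicit false

namespace Cfsg.Agent.JordanField

universe u

variable {E : Type u} [Ring E]

/-- The hypotheses. -/
structure Closed (J : AddSubgroup E) : Prop where
  one_mem : (1 : E) ∈ J
  tri : ∀ a ∈ J, ∀ b ∈ J, a * b * a ∈ J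
  unit : ∀ a ∈ J, a ≠ 0 → IsUnit a

variable {J : AddSubgroup E} (h : Closed J)
include h

theorem Closed.pow_mem {x : E} (hx : x ∈ J) : ∀ n : ℕ, x ^ n ∈ J
  | 0 => by rw [pow_zero]; exact h.one_mem
  | 1 => by rw [pow_one]; exact hx
  | n + 2 => by
    have e : x ^ (n + 2) = x * x ^ n * x := by rw [pow_succ, pow_succ']
    rw [e]
    exact h.tri x hx _ (Closed.pow_mem hx n)

theorem Closed.closure_singleton_le {x : E} (hx : x ∈ J) : ∀ z ∈ Subring.closure ({x} : Set E), z ∈ J := by
  intro z hz
  rw [Subring.mem_closure_iff] at hz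
  refine (AddSubgroup.closure_le J).2 ?_ hz
  intro w hw
  obtain ⟨n, rfl⟩ := Submonoid.mem_closure_singleton.1 hw
  exact h.pow_mem hx n

/-- A commutative subring inside `J` is a field. -/
theorem Closed.isField [Finite E] [Nontrivial E] (L : Subring E) (hL : ∀ z ∈ L, z ∈ J)
    (hc : ∀ a ∈ L, ∀ b ∈ L, a * b = b * a) : IsField L := by
  letI : CommRing L := { (inferInstance : Ring L) with mul_comm := fun a b => Subtype.ext (hc a a.2 b b.2) }
  haveI : NoZeroDivisors L := ⟨fun {a b} hab => by
    by_cases ha : a = 0
    · exact Or.inl ha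
    refine Or.inr (Subtype.ext ?_)
    have h1 : (a : E) * b = 0 := congrArg Subtype.val hab
    exact (h.unit a (hL a a.2) fun e => ha (Subtype.ext e)).mul_right_eq_zero.1 h1⟩
  haveI : IsDomain L := NoZeroDivisors.to_isDomain _
  exact Finite.isField_of_domain L

omit h in
/-- In a finite field every element is a sum of two squares. -/
theorem exists_two_squares (F : Type*) [Field F] [Finite F] (x : F) : ∃ a b : F, x = a * a + b * b := by
  classical
  letI := Fintype.ofFinite F
  by_cases hF : ringChar F = 2
  · obtain ⟨a, ha⟩ := FiniteField.isSquare_of_char_two hF x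
    exact ⟨a, 0, by rw [mul_zero, add_zero]; exact ha⟩
  · obtain ⟨a, b, hab⟩ := FiniteField.exists_root_sum_quadratic (R := F) (f := Polynomial.X ^ 2)
      (g := Polynomial.X ^ 2 - Polynomial.C x) (Polynomial.degree_X_pow 2)
      (Polynomial.degree_X_pow_sub_C (by norm_num) x) (FiniteField.odd_card_of_char_ne_two hF)
    refine ⟨a, b, ?_⟩
    simp only [Polynomial.eval_pow, Polynomial.eval_X, Polynomial.eval_sub, Polynomial.eval_C] at hab
    linear_combination -hab

/-- Commuting members multiply inside `J`. -/
theorem Closed.mul_mem [Finite E] [Nontrivial E] {x y : E} (hx : x ∈ J) (hy : y ∈ J) (hxy : Commute x y) :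
    x * y ∈ J := by
  set L := Subring.closure ({y} : Set E) with hL
  have hLx : ∀ z ∈ L, Commute x z := by
    intro z hz
    induction hz using Subring.closure_induction with
    | mem w hw => rw [Set.mem_singleton_iff] at hw; subst hw; exact hxy
    | zero => exact Commute.zero_right x
    | one => exact Commute.one_right x
    | add a b _ _ ha hb => exact ha.add_right hb
    | neg a _ ha => exact ha.neg_right
    | mul a b _ _ ha hb => exact ha.mul_right hb
  have hLc : ∀ a ∈ L, ∀ b ∈ L, a * b = b * a := by
    intro a ha b hb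
    have h1 : ∀ z ∈ L, Commute y z := by
      intro z hz
      induction hz using Subring.closure_induction with
      | mem w hw => rw [Set.mem_singleton_iff] at hw; subst hw; exact Commute.refl _
      | zero => exact Commute.zero_right y
      | one => exact Commute.one_right y
      | add a b _ _ ha hb => exact ha.add_right hb
      | neg a _ ha => exact ha.neg_right
      | mul a b _ _ ha hb => exact ha.mul_right hb
    induction ha using Subring.closure_induction with
    | mem w hw => rw [Set.mem_singleton_iff] at hw; subst hw; exact (h1 b hb).eq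
    | zero => rw [zero_mul, mul_zero]
    | one => rw [one_mul, mul_one]
    | add a a' _ _ ha ha' => rw [add_mul, mul_add, ha, ha']
    | neg a _ ha => rw [neg_mul, mul_neg, ha]
    | mul a a' _ _ ha ha' => rw [mul_assoc, ha', ← mul_assoc, ha, mul_assoc]
  letI : Field L := (h.isField L (h.closure_singleton_le hy) hLc).toField
  obtain ⟨s, t, hst⟩ := exists_two_squares L ⟨y, Subring.subset_closure rfl⟩
  have e : y = (s : E) * s + (t : E) * t := congrArg Subtype.val hst
  have e1 : ∀ w : L, x * ((w : E) * w) = (w : E) * x * w := fun w => by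
    rw [← mul_assoc, (hLx w w.2).eq]
  rw [e, mul_add, e1, e1]
  exact add_mem (h.tri _ (h.closure_singleton_le hy _ s.2) _ hx) (h.tri _ (h.closure_singleton_le hy _ t.2) _ hx)

/-- The subring generated by commuting members lies in `J` and is commutative. -/
theorem Closed.closure_le [Finite E] [Nontrivial E] {s : Set E} (hs : s ⊆ J)
    (hc : ∀ a ∈ s, ∀ b ∈ s, a * b = b * a) :
    (∀ z ∈ Subring.closure s, z ∈ J) ∧ ∀ a ∈ Subring.closure s, ∀ b ∈ Subring.closure s, a * b = b * a := by
  have h1 : ∀ a ∈ Subring.closure s, ∀ b ∈ Subring.closure s, a * b = b * a := by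
    have h0 : ∀ w ∈ s, ∀ b ∈ Subring.closure s, w * b = b * w := by
      intro w hw b hb
      induction hb using Subring.closure_induction with
      | mem v hv => exact hc w hw v hv
      | zero => rw [zero_mul, mul_zero]
      | one => rw [one_mul, mul_one]
      | add a a' _ _ ha ha' => rw [add_mul, mul_add, ha, ha']
      | neg a _ ha => rw [neg_mul, mul_neg, ha]
      | mul a a' _ _ ha ha' => rw [← mul_assoc, ha, mul_assoc, ha', ← mul_assoc]
    intro a ha b hb
    induction ha using Subring.closure_induction with
    | mem w hw => exact h0 w hw b hb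
    | zero => rw [zero_mul, mul_zero]
    | one => rw [one_mul, mul_one]
    | add a a' _ _ ha ha' => rw [add_mul, mul_add, ha, ha']
    | neg a _ ha => rw [neg_mul, mul_neg, ha]
    | mul a a' _ _ ha ha' => rw [mul_assoc, ha', ← mul_assoc, ha, mul_assoc]
  refine ⟨fun z hz => ?_, h1⟩
  induction hz using Subring.closure_induction with
  | mem w hw => exact hs hw
  | zero => exact zero_mem J
  | one => exact h.one_mem
  | add a a' _ _ ha ha' => exact add_mem ha ha'
  | neg a _ ha => exact neg_mem ha
  | mul a a' hma hma' ha ha' => exact h.mul_mem ha ha' (h1 a hma a' hma')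

/-- A largest commutative subring inside `J` is its own centralizer in `J`. -/
theorem Closed.exists_maximal [Finite E] [Nontrivial E] :
    ∃ L : Subring E, (∀ z ∈ L, z ∈ J) ∧ (∀ a ∈ L, ∀ b ∈ L, a * b = b * a) ∧
      ∀ z ∈ J, (∀ k ∈ L, k * z = z * k) → z ∈ L := by
  classical
  haveI : Finite (Subring E) := Finite.of_injective _ (SetLike.coe_injective (A := Subring E))
  set T := {L : Subring E // (∀ z ∈ L, z ∈ J) ∧ ∀ a ∈ L, ∀ b ∈ L, a * b = b * a}
  obtain ⟨h1, h2⟩ := h.closure_le (s := ∅) (Set.empty_subset _) (fun a ha => ha.elim)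
  haveI : Nonempty T := ⟨⟨_, h1, h2⟩⟩
  obtain ⟨⟨L, hLJ, hLc⟩, hmax⟩ := Finite.exists_max (fun L : T => Nat.card L.1)
  refine ⟨L, hLJ, hLc, fun z hz hzc => ?_⟩
  obtain ⟨h3, h4⟩ := h.closure_le (s := insert z (L : Set E))
    (Set.insert_subset hz hLJ)
    (by
      rintro a (rfl | ha) b (rfl | hb)
      · rfl
      · exact (hzc b hb).symm
      · exact hzc a ha
      · exact hLc a ha b hb)
  have hle : L ≤ Subring.closure (insert z (L : Set E)) :=
    fun w hw => Subring.subset_closure (Set.mem_insert_of_mem z hw)
  have hcard := hmax ⟨_, h3, h4⟩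
  have heq : (L : Set E) = (Subring.closure (insert z (L : Set E)) : Set E) :=
    Set.eq_of_subset_of_ncard_le hle (by rw [← Nat.card_coe_set_eq, ← Nat.card_coe_set_eq]; exact hcard) (Set.toFinite _)
  show z ∈ (L : Set E)
  rw [heq]
  exact Subring.subset_closure (Set.mem_insert z _)

end Cfsg.Agent.JordanField
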