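import Cfsg.Agent.Lib.PushUp.Jordan.Slots

/-!
# Simple modules of a twisted polynomial ring over a finite field

`R` is spanned over `K` by the `a ^ l` and `a ^ (t + l)` for `l < t`, where `a` induces an automorphism of order `t`
and `a ^ t` is central. A faithful simple module has at most `|K| ^ 2` elements, and at most `|K|` when
`a ^ t ∈ K`.
-/

set_option autoImplicit false

namespace Cfsg.Agent.JordanField

universe u v w

variable {R : Type u} [Ring R] [Finite R] {K : Type v} [Field K] [Finite K]

/-- The hypotheses on the ring. -/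
structure Twisted (ι : K →+* R) (a : R) (σ : K →+* K) (t : ℕ) : Prop where
  pos : 0 < t
  per : ∀ k, σ^[t] k = k
  min : ∀ l, 0 < l → l < t → ∃ k, σ^[l] k ≠ k
  twist : ∀ k, a * ι k = ι (σ k) * a
  isUnit : IsUnit a
  span : ∀ x : R, ∃ f f' : ℕ → K, x = ∑ l ∈ Finset.range t, (ι (f l) + ι (f' l) * a ^ t) * a ^ l

variable {ι : K →+* R} {a : R} {σ : K →+* K} {t : ℕ} (h : Twisted ι a σ t)
include h

omit [Finite R] [Finite K] in
theorem Twisted.twist_pow (l : ℕ) (k : K) : a ^ l * ι k = ι (σ^[l] k) * a ^ l := by
  induction l generalizing k with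
  | zero => simp
  | succ l ih =>
    rw [pow_succ, mul_assoc, h.twist, ← mul_assoc, ih, mul_assoc, Function.iterate_succ_apply]

omit [Finite R] [Finite K] in
theorem Twisted.commute_pow (k : K) : Commute (a ^ t) (ι k) := by
  show a ^ t * ι k = ι k * a ^ t
  rw [h.twist_pow, h.per]

omit [Finite R] in
/-- The fixed field is small. -/
theorem Twisted.card_fixed : Nat.card {k : K // σ k = k} ^ t ≤ Nat.card K := by
  classical
  let Z : Subfield K := RingHom.eqLocusField σ (RingHom.id K)
  letI := Fintype.ofFinite K
  letI : Fintype Z := Fintype.ofFinite Z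
  haveI : FiniteDimensional Z K := Module.Finite.of_finite
  let f : Fin t → (K →ₐ[Z] K) := fun l =>
    { toRingHom := ((σ : K →+* K) ^ (l : ℕ) : K →+* K)
      commutes' := fun z => by
        show (σ ^ (l : ℕ)) (z : K) = (z : K)
        rw [RingHom.coe_pow]
        exact Function.iterate_fixed (show σ (z : K) = z from z.2) _ }
  have hf : Function.Injective f := by
    intro i j e
    have key : ∀ i j : Fin t, (i : ℕ) ≤ j → f i = f j → i = j := by
      intro i j hle e
      by_contra hne
      obtain ⟨k, hk⟩ := h.min ((j : ℕ) - i) (by have := Fin.val_ne_of_ne hne; omega) (by omega)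
      refine hk ((σ.injective.iterate (i : ℕ)) ?_)
      rw [← Function.iterate_add_apply, show (i : ℕ) + ((j : ℕ) - i) = j by omega]
      have e1 := DFunLike.congr_fun e k
      change (σ ^ (i : ℕ)) k = (σ ^ (j : ℕ)) k at e1
      rw [RingHom.coe_pow, RingHom.coe_pow] at e1
      exact e1.symm
    rcases le_total (i : ℕ) j with hle | hle
    · exact key i j hle e
    · exact (key j i hle e.symm).symm
  have h1 : t ≤ Module.finrank Z K := by
    have h2 := Fintype.card_le_of_injective f hf
    rw [Fintype.card_fin] at h2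
    exact h2.trans AlgHom.card_le
  rw [show Nat.card {k : K // σ k = k} = Nat.card Z from rfl, Nat.card_eq_fintype_card, Nat.card_eq_fintype_card,
    Module.card_eq_pow_finrank (K := Z) (V := K)]
  exact Nat.pow_le_pow_right Fintype.card_pos h1

/-- Central elements lie in `Z + Z a ^ t`. -/
theorem Twisted.central [Nontrivial R] {g : K} (hg : Gen g) {x : R} (hx : ∀ y, x * y = y * x) :
    ∃ k k' : K, x = ι k + ι k' * a ^ t ∧ ι (σ k - k) + ι (σ k' - k') * a ^ t = 0 := by
  classical
  haveI := Fintype.ofFinite K
  obtain ⟨f, f', hf⟩ := h.span x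
  set X : ℕ → R := fun l => (ι (f l) + ι (f' l) * a ^ t) * a ^ l with hX
  have hslot : ∀ l, InSlot ι g (σ^[l] g) (X l) := by
    intro l
    show (ι (f l) + ι (f' l) * a ^ t) * a ^ l * ι g = ι (σ^[l] g) * ((ι (f l) + ι (f' l) * a ^ t) * a ^ l)
    rw [mul_assoc, h.twist_pow, ← mul_assoc, ← mul_assoc, add_mul, mul_add, mul_assoc (ι (f' l)), (h.commute_pow _).eq,
      ← mul_assoc, ← mul_assoc, ← map_mul, ← map_mul, ← map_mul, ← map_mul, mul_comm (f l), mul_comm (f' l)]
  have hinj : ∀ i < t, ∀ j < t, i ≤ j → σ^[i] g = σ^[j] g → i = j := by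
    intro i _ j hj hle e
    by_contra hne
    obtain ⟨k, hk⟩ := h.min (j - i) (by omega) (by omega)
    refine hk ?_
    have e1 : σ^[j - i] g = g := (σ.injective.iterate i) (by
      rw [← Function.iterate_add_apply, show i + (j - i) = j by omega]
      exact e.symm)
    have e2 := hg.hom_ext (τ := σ ^ (j - i)) (τ' := RingHom.id K) (by rw [RingHom.coe_pow]; exact e1) k
    rwa [RingHom.coe_pow] at e2
  have hzero : ∀ l < t, l ≠ 0 → X l = 0 := by
    intro l hl hl0
    have h1 : ∀ y : R, partHom ι g (σ^[l] g) y = part ι g (σ^[l] g) y := fun y => rfl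
    have hp : part ι g (σ^[l] g) x = X l := by
      rw [hf, ← h1, map_sum]
      rw [Finset.sum_eq_single l (fun j hj hjl => ?_) (fun hh => absurd (Finset.mem_range.2 hl) hh)]
      · rw [h1]
        exact (part_of_slot ι g (hslot l)).trans (if_pos rfl)
      · rw [h1]
        refine (part_of_slot ι g (hslot j)).trans (if_neg fun e => hjl ?_)
        rcases le_total j l with hle | hle
        · exact hinj j (Finset.mem_range.1 hj) l hl hle e
        · exact (hinj l hl j (Finset.mem_range.1 hj) hle e.symm).symm
    have hx0 : InSlot ι g g x := hx (ι g)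
    rw [part_of_slot ι g hx0, if_neg (show g ≠ σ^[l] g from fun e => hl0 (hinj 0 h.pos l hl (Nat.zero_le l) e).symm)] at hp
    exact hp.symm
  refine ⟨f 0, f' 0, ?_, ?_⟩
  · rw [hf]
    refine (Finset.sum_eq_single 0 (fun l hl hl0 => hzero l (Finset.mem_range.1 hl) hl0)
      (fun hh => absurd (Finset.mem_range.2 h.pos) hh)).trans ?_
    simp only [hX, pow_zero, mul_one]
  · have hxe : x = ι (f 0) + ι (f' 0) * a ^ t := by
      rw [hf]
      refine (Finset.sum_eq_single 0 (fun l hl hl0 => hzero l (Finset.mem_range.1 hl) hl0)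
        (fun hh => absurd (Finset.mem_range.2 h.pos) hh)).trans ?_
      simp only [hX, pow_zero, mul_one]
    have e := hx a
    rw [hxe] at e
    have e2 : a * (ι (f 0) + ι (f' 0) * a ^ t) = (ι (σ (f 0)) + ι (σ (f' 0)) * a ^ t) * a := by
      rw [mul_add, add_mul, h.twist, ← mul_assoc, h.twist, mul_assoc, mul_assoc, (Commute.self_pow a t).eq]
    rw [e2] at e
    refine h.isUnit.mul_left_eq_zero.1 ?_
    rw [map_sub, map_sub, sub_mul,
      show ι (σ (f 0)) - ι (f 0) + (ι (σ (f' 0)) * a ^ t - ι (f' 0) * a ^ t) =
        (ι (σ (f 0)) + ι (σ (f' 0)) * a ^ t) - (ι (f 0) + ι (f' 0) * a ^ t) by abel, sub_mul, ← e, sub_self]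

/-- The bound. -/
theorem Twisted.card_module {N : Type w} [AddCommGroup N] [Module R N] [IsSimpleModule R N] [Finite N]
    [FaithfulSMul R N] : Nat.card N ≤ Nat.card K ^ 2 ∧ (a ^ t ∈ Set.range ι → Nat.card N ≤ Nat.card K) := by
  classical
  haveI : Nontrivial N := IsSimpleModule.nontrivial R N
  haveI : Nontrivial R := by
    obtain ⟨m, hm⟩ := exists_ne (0 : N)
    exact ⟨⟨0, 1, fun e => hm (by rw [← one_smul R m, ← e, zero_smul])⟩⟩
  obtain ⟨g, hg⟩ := exists_gen K
  letI := Fintype.ofFinite K
  set D := Module.End R N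
  haveI : Finite D := Finite.of_injective (fun f : D => (f : N → N)) DFunLike.coe_injective
  letI : Fintype D := Fintype.ofFinite D
  letI : Fintype N := Fintype.ofFinite N
  have hcomm : ∀ f f' : D, f * f' = f' * f := fun f f' => by
    letI : DivisionRing D := Module.End.instDivisionRing
    exact (littleWedderburn D).mul_comm f f'
  haveI : Module.Finite D N := Module.Finite.of_finite
  have hsurj := Module.Finite.toModuleEnd_moduleEnd_surjective (R := R) (M := N)
  -- the endomorphism ring is embedded into the centre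
  have hD : ∀ f : D, ∃ r : R, (∀ y, r * y = y * r) ∧ ∀ m : N, r • m = f m := by
    intro f
    let F : Module.End D N :=
      { toFun := fun m => f m
        map_add' := map_add f
        map_smul' := fun f' m => DFunLike.congr_fun (hcomm f f') m }
    obtain ⟨r, hr⟩ := hsurj F
    have hr' : ∀ m : N, r • m = f m := fun m => DFunLike.congr_fun hr m
    refine ⟨r, fun y => eq_of_smul_eq_smul fun m : N => ?_, hr'⟩
    rw [mul_smul, mul_smul, hr', hr', map_smul]
  choose c hc hcm using hD
  have hcinj : Function.Injective c := fun f f' e => LinearMap.ext fun m => by rw [← hcm, e, hcm]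
  set Z := {k : K // σ k = k}
  letI : Fintype Z := Fintype.ofFinite Z
  haveI : Nonempty Z := ⟨⟨0, map_zero σ⟩⟩
  -- a uniform bound
  have main : ∀ e : ℕ, Nat.card R ≤ Nat.card K ^ (e * t) → Nat.card D ≤ Nat.card Z ^ e →
      Nat.card N ≤ Nat.card K ^ e := by
    intro e hR hDZ
    letI : DivisionRing D := Module.End.instDivisionRing
    letI : Field D := littleWedderburn D
    set m := Module.finrank D N
    have hN : Nat.card N = Nat.card D ^ m := by
      rw [Nat.card_eq_fintype_card, Nat.card_eq_fintype_card]
      exact Module.card_eq_pow_finrank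
    have hEnd : Nat.card D ^ (m * m) ≤ Nat.card R := by
      haveI : Finite (Module.End D N) := Finite.of_injective (fun f => (f : N → N)) DFunLike.coe_injective
      have h1 : Nat.card (Module.End D N) ≤ Nat.card R := Nat.card_le_card_of_surjective _ hsurj
      refine le_trans (le_of_eq ?_) h1
      rw [Module.natCard_eq_pow_finrank (K := D) (V := Module.End D N), Module.finrank_linearMap]
    rw [hN]
    rcases le_or_gt m t with hmt | hmt
    · calc Nat.card D ^ m ≤ (Nat.card Z ^ e) ^ m := Nat.pow_le_pow_left hDZ m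
        _ ≤ (Nat.card Z ^ e) ^ t := Nat.pow_le_pow_right (pow_pos Nat.card_pos _ ) hmt
        _ = (Nat.card Z ^ t) ^ e := by rw [← pow_mul, ← pow_mul, mul_comm]
        _ ≤ _ := Nat.pow_le_pow_left h.card_fixed e
    · refine (Nat.pow_le_pow_iff_left h.pos.ne').1 ?_
      calc (Nat.card D ^ m) ^ t = Nat.card D ^ (m * t) := by rw [pow_mul]
        _ ≤ Nat.card D ^ (m * m) := Nat.pow_le_pow_right Nat.card_pos (Nat.mul_le_mul_left m hmt.le)
        _ ≤ Nat.card K ^ (e * t) := hEnd.trans hR
        _ = (Nat.card K ^ e) ^ t := pow_mul _ _ _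
  constructor
  · refine main 2 ?_ ?_
    · have hs : Function.Surjective fun F : (Fin t → K) × (Fin t → K) =>
          ∑ l : Fin t, (ι (F.1 l) + ι (F.2 l) * a ^ t) * a ^ (l : ℕ) := fun x => by
        obtain ⟨f, f', rfl⟩ := h.span x
        exact ⟨(fun l => f l, fun l => f' l), (Finset.sum_range fun l => (ι (f l) + ι (f' l) * a ^ t) * a ^ l).symm⟩
      refine (Nat.card_le_card_of_surjective _ hs).trans_eq ?_
      rw [Nat.card_prod, Nat.card_fun, Nat.card_fin, ← pow_add, two_mul]
    · choose k k' hk hkz using fun f : D => h.central hg (hc f)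
      by_cases hT : a ^ t ∈ Set.range ι
      · obtain ⟨τ, hτ⟩ := hT
        refine le_trans ?_ (Nat.le_self_pow two_ne_zero _)
        have hfix : ∀ f, σ (k f + k' f * τ) = k f + k' f * τ := by
          intro f
          have e : c f = ι (k f + k' f * τ) := by rw [hk, map_add, map_mul, hτ]
          have e1 := hc f a
          rw [e, h.twist] at e1
          exact (ι.injective (h.isUnit.mul_left_injective e1)).symm
        refine Nat.card_le_card_of_injective (fun f => (⟨_, hfix f⟩ : Z)) fun f f' e => hcinj ?_
        have e' : k f + k' f * τ = k f' + k' f' * τ := congrArg Subtype.val e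
        rw [hk, hk, ← hτ, ← map_mul, ← map_mul, ← map_add, ← map_add, e']
      · have hfix : ∀ f, σ (k f) = k f ∧ σ (k' f) = k' f := by
          intro f
          have e := hkz f
          have h0 : σ (k' f) - k' f = 0 := by
            by_contra hne
            refine hT ⟨(σ (k' f) - k' f)⁻¹ * -(σ (k f) - k f), ?_⟩
            rw [map_mul, map_neg, ← eq_neg_of_add_eq_zero_right e, ← mul_assoc, ← map_mul, inv_mul_cancel₀ hne,
              map_one, one_mul]
          rw [h0, map_zero, zero_mul, add_zero] at e
          exact ⟨sub_eq_zero.1 (ι.injective (e.trans (map_zero ι).symm)), sub_eq_zero.1 h0⟩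
        refine (Nat.card_le_card_of_injective (fun f => ((⟨_, (hfix f).1⟩, ⟨_, (hfix f).2⟩) : Z × Z))
          fun f f' e => hcinj ?_).trans_eq (by rw [Nat.card_prod, sq])
        rw [hk, hk, show k f = k f' from congrArg (fun z : Z × Z => (z.1 : K)) e,
          show k' f = k' f' from congrArg (fun z : Z × Z => (z.2 : K)) e]
  · rintro ⟨τ, hτ⟩
    rw [← pow_one (Nat.card K)]
    refine main 1 ?_ ?_
    · have hs : Function.Surjective fun F : Fin t → K => ∑ l : Fin t, ι (F l) * a ^ (l : ℕ) := fun x => by
        obtain ⟨f, f', rfl⟩ := h.span x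
        refine ⟨fun l => f l + f' l * τ, ?_⟩
        rw [Finset.sum_range fun l => (ι (f l) + ι (f' l) * a ^ t) * a ^ l]
        simp only [map_add, map_mul, hτ]
      refine (Nat.card_le_card_of_surjective _ hs).trans_eq ?_
      rw [Nat.card_fun, Nat.card_fin, one_mul]
    · choose k k' hk hkz using fun f : D => h.central hg (hc f)
      rw [pow_one]
      have hfix : ∀ f, σ (k f + k' f * τ) = k f + k' f * τ := by
        intro f
        have e : c f = ι (k f + k' f * τ) := by rw [hk, map_add, map_mul, hτ]
        have e1 := hc f a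
        rw [e, h.twist] at e1
        exact (ι.injective (h.isUnit.mul_left_injective e1)).symm
      refine Nat.card_le_card_of_injective (fun f => (⟨_, hfix f⟩ : Z)) fun f f' e => hcinj ?_
      have e' : k f + k' f * τ = k f' + k' f' * τ := congrArg Subtype.val e
      rw [hk, hk, ← hτ, ← map_mul, ← map_mul, ← map_add, ← map_add, e']

end Cfsg.Agent.JordanField
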