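import Cfsg.Agent.Lib.PushUp.Jordan.Pairs
import Cfsg.Agent.Lib.PushUp.Jordan.Bound

/-!
# Sets of units closed under `a b a` are commutative

Otherwise `J` has an element `a + b` in two inverse slots over a largest field `K ⊆ J`. On a simple module of the
ring generated by `K`, `a`, `b` there are no more than `|K| ^ 2` elements, so the elements of `J` in that ring are
`k + l a + l' b`, and the square of `a + b` is not of this form.
-/

set_option autoImplicit false

namespace Cfsg.Agent.JordanField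

universe u v w

variable {E : Type u} [Ring E] [Finite E] {K : Type v} [Field K] [Fintype K]

/-- An element `a + b` of `J` in two inverse slots. -/
structure Pair (J : AddSubgroup E) (ι : K →+* E) (g : K) (σ ρ : K →+* K) (a b : E) : Prop where
  inv_left : ∀ k, ρ (σ k) = k
  inv_right : ∀ k, σ (ρ k) = k
  moves : σ g ≠ g
  twA : ∀ k, a * ι k = ι (σ k) * a
  twB : ∀ k, b * ι k = ι (ρ k) * b
  a0 : a ≠ 0
  prodA : ∃ k, a * b = ι k
  prodB : ∃ k, b * a = ι k
  mem : a + b ∈ J
  scal : σ (σ g) ≠ g → ∀ l, ι l * a + ι (ρ l) * b ∈ J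
  single : σ (σ g) = g → a * b = 0 ∧ b * a = 0
  single' : σ (σ g) = g → b = 0 ∨ a = 0

variable {J : AddSubgroup E} {ι : K →+* E} {g : K} {σ ρ : K →+* K} {a b : E}

/-- The ring generated by `K`, `a` and `b`. -/
def genRing (ι : K →+* E) (a b : E) : Subring E := Subring.closure (Set.range ι ∪ {a, b})

theorem genRing_swap (ι : K →+* E) (a b : E) : genRing ι a b = genRing ι b a := by
  rw [genRing, genRing, Set.pair_comm]

theorem mem_genRing_K (k : K) : ι k ∈ genRing ι a b := Subring.subset_closure (Or.inl ⟨k, rfl⟩)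

theorem mem_genRing_a : a ∈ genRing ι a b := Subring.subset_closure (Or.inr (Set.mem_insert _ _))

theorem mem_genRing_b : b ∈ genRing ι a b := Subring.subset_closure (Or.inr (Set.mem_insert_of_mem _ rfl))

variable (P : Pair J ι g σ ρ a b)
include P

omit [Finite E] in
theorem Pair.slotA : InSlot ι g (σ g) a := P.twA g

omit [Finite E] in
theorem Pair.slotB : InSlot ι g (ρ g) b := P.twB g

omit [Finite E] in
theorem Pair.slot_powA (l : ℕ) : ∀ k, a ^ l * ι k = ι (σ^[l] k) * a ^ l := by
  induction l with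
  | zero => simp
  | succ l ih => intro k; rw [pow_succ, mul_assoc, P.twA, ← mul_assoc, ih, mul_assoc, Function.iterate_succ_apply]

omit [Finite E] in
theorem Pair.slot_powB (l : ℕ) : ∀ k, b ^ l * ι k = ι (ρ^[l] k) * b ^ l := by
  induction l with
  | zero => simp
  | succ l ih => intro k; rw [pow_succ, mul_assoc, P.twB, ← mul_assoc, ih, mul_assoc, Function.iterate_succ_apply]

omit [Finite E] in
theorem Pair.eq_zero_of_smul_a {k : K} (hk : ι k * a = 0) : k = 0 := by
  by_contra hne
  have h1 := congrArg (fun x => ι k⁻¹ * x) hk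
  simp only [mul_zero, ← mul_assoc, ← map_mul, inv_mul_cancel₀ hne, map_one, one_mul] at h1
  exact P.a0 h1

omit [Finite E] in
/-- `b a = k'` with `σ k' = k` for `a b = k`. -/
theorem Pair.twistProd {k k' : K} (hab : a * b = ι k) (hba : b * a = ι k') : σ k' = k := by
  have h1 : a * (b * a) = (a * b) * a := (mul_assoc a b a).symm
  rw [hab, hba, P.twA] at h1
  exact sub_eq_zero.1 (P.eq_zero_of_smul_a (by rw [map_sub, sub_mul, h1, sub_self]))

omit [Finite E] in
theorem Pair.iterate_inv (l : ℕ) : ∀ k, ρ^[l] (σ^[l] k) = k := by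
  induction l with
  | zero => simp
  | succ l ih => intro k; rw [Function.iterate_succ_apply, Function.iterate_succ_apply' (⇑σ), P.inv_left, ih]

omit P in
omit [Finite E] in
/-- A period of `σ`. -/
theorem exists_period [Finite K] (σ : K →+* K) (g : K) : ∃ t, 0 < t ∧ σ^[t] g = g := by
  obtain ⟨i, j, hij, e⟩ := Finite.exists_ne_map_eq_of_infinite (fun n : ℕ => σ^[n] g)
  rcases lt_or_gt_of_ne hij with hlt | hlt
  · refine ⟨j - i, by omega, (σ.injective.iterate i) ?_⟩
    rw [← Function.iterate_add_apply, show i + (j - i) = j by omega]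
    exact e.symm
  · refine ⟨i - j, by omega, (σ.injective.iterate j) ?_⟩
    rw [← Function.iterate_add_apply, show j + (i - j) = i by omega]
    exact e

open Classical in
/-- The order of `σ`. -/
noncomputable def Pair.ord (_P : Pair J ι g σ ρ a b) : ℕ := Nat.find (exists_period σ g)

open Classical in
omit [Finite E] in
theorem Pair.ord_spec : 0 < P.ord ∧ σ^[P.ord] g = g := Nat.find_spec (exists_period σ g)

open Classical in
omit [Finite E] in
theorem Pair.ord_min {l : ℕ} (h0 : 0 < l) (hl : l < P.ord) : σ^[l] g ≠ g :=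
  fun e => Nat.find_min (exists_period σ g) hl ⟨h0, e⟩

omit [Finite E] in
theorem Pair.per (hg : Gen g) (k : K) : σ^[P.ord] k = k := by
  have h1 := hg.hom_ext (τ := σ ^ P.ord) (τ' := RingHom.id K) (by rw [RingHom.coe_pow]; exact P.ord_spec.2) k
  rwa [RingHom.coe_pow] at h1

omit [Finite E] in
theorem Pair.perB (hg : Gen g) (k : K) : ρ^[P.ord] k = k := by
  conv_lhs => rw [← P.per hg k]
  exact P.iterate_inv _ k

omit [Finite E] in
theorem Pair.commute_pow (hg : Gen g) : Commute (a ^ P.ord) b ∧ Commute a (b ^ P.ord) := by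
  obtain ⟨n, hn⟩ : ∃ n, P.ord = n + 1 := ⟨P.ord - 1, by have := P.ord_spec.1; omega⟩
  obtain ⟨k, hab⟩ := P.prodA
  obtain ⟨k', hba⟩ := P.prodB
  have hk := P.twistProd hab hba
  have hk' : ρ k = k' := by rw [← hk, P.inv_left]
  constructor
  · show a ^ P.ord * b = b * a ^ P.ord
    conv_rhs => rw [hn, pow_succ', ← mul_assoc, hba]
    rw [hn, pow_succ, mul_assoc, hab, P.slot_powA, ← hk, ← Function.iterate_succ_apply, show n.succ = P.ord from hn.symm,
      P.per hg]
  · show a * b ^ P.ord = b ^ P.ord * a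
    conv_lhs => rw [hn, pow_succ', ← mul_assoc, hab]
    rw [hn, pow_succ, mul_assoc, hba, P.slot_powB, ← hk', ← Function.iterate_succ_apply,
      show n.succ = P.ord from hn.symm, P.perB hg]

omit [Finite E] in
theorem Pair.pow_mul_pow : ∀ l : ℕ, ∃ k, a ^ l * b ^ l = ι k := by
  intro l
  induction l with
  | zero => exact ⟨1, by simp⟩
  | succ l ih =>
    obtain ⟨k, hk⟩ := ih
    obtain ⟨k', hk'⟩ := P.prodA
    refine ⟨σ^[l] k' * k, ?_⟩
    rw [pow_succ, pow_succ', mul_assoc, ← mul_assoc a, hk', ← mul_assoc, P.slot_powA, mul_assoc, hk, map_mul]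

/-- `a ^ t + b ^ t ∈ K`, fixed by `σ`. -/
theorem Pair.exists_sum (hg : Gen g) (h : Closed J) (hKJ : ∀ k, ι k ∈ J) (p : ℕ) [Fact p.Prime] [Algebra (ZMod p) K]
    (hmax : ∀ z ∈ J, (∀ k, ι k * z = z * ι k) → ∃ k, z = ι k) :
    ∃ s, a ^ P.ord + b ^ P.ord = ι s ∧ σ s = s := by
  classical
  set t := P.ord with ht
  obtain ⟨k₁, hab⟩ := P.prodA
  obtain ⟨k₂, hba⟩ := P.prodB
  set low : ℕ → AddSubgroup E := fun l =>
    AddSubgroup.closure {z | ∃ j < l, ∃ k, z = ι k * a ^ j ∨ z = ι k * b ^ j} with hlow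
  have hgenA : ∀ {j l : ℕ}, j < l → ∀ k, ι k * a ^ j ∈ low l := fun hj k =>
    AddSubgroup.subset_closure ⟨_, hj, k, Or.inl rfl⟩
  have hgenB : ∀ {j l : ℕ}, j < l → ∀ k, ι k * b ^ j ∈ low l := fun hj k =>
    AddSubgroup.subset_closure ⟨_, hj, k, Or.inr rfl⟩
  have hstep : ∀ (l : ℕ) (z : E), z ∈ low l → (a + b) * z ∈ low (l + 1) := by
    intro l z hz
    induction hz using AddSubgroup.closure_induction with
    | mem w hw =>
      obtain ⟨j, hj, k, rfl | rfl⟩ := hw
      · rw [add_mul, ← mul_assoc, ← mul_assoc, P.twA, P.twB, mul_assoc, mul_assoc, ← pow_succ']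
        refine add_mem (hgenA (by omega) _) ?_
        cases j with
        | zero =>
          rw [pow_zero, mul_one]
          simpa using hgenB (j := 1) (l := l + 1) (by omega) (ρ k)
        | succ j =>
          rw [pow_succ', ← mul_assoc b, hba, ← mul_assoc, ← map_mul]
          exact hgenA (by omega) _
      · rw [add_mul, ← mul_assoc, ← mul_assoc, P.twA, P.twB, mul_assoc, mul_assoc, ← pow_succ']
        refine add_mem ?_ (hgenB (by omega) _)
        cases j with
        | zero =>
          rw [pow_zero, mul_one]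
          simpa using hgenA (j := 1) (l := l + 1) (by omega) (σ k)
        | succ j =>
          rw [pow_succ', ← mul_assoc a, hab, ← mul_assoc, ← map_mul]
          exact hgenB (by omega) _
    | zero => rw [mul_zero]; exact zero_mem _
    | add x y _ _ hx hy => rw [mul_add]; exact add_mem hx hy
    | neg x _ hx => rw [mul_neg]; exact neg_mem hx
  have hpow : ∀ l : ℕ, 0 < l → (a + b) ^ l - a ^ l - b ^ l ∈ low l := by
    intro l hl
    induction l, hl using Nat.le_induction with
    | base => simp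
    | succ l hl ih =>
      have e : (a + b) ^ (l + 1) - a ^ (l + 1) - b ^ (l + 1) =
          (a + b) * ((a + b) ^ l - a ^ l - b ^ l) + (a * b ^ l + b * a ^ l) := by
        rw [pow_succ', pow_succ', pow_succ']; noncomm_ring
      rw [e]
      refine add_mem (hstep l _ ih) (add_mem ?_ ?_)
      · obtain ⟨j, rfl⟩ : ∃ j, l = j + 1 := ⟨l - 1, by omega⟩
        rw [pow_succ', ← mul_assoc, hab]
        exact hgenB (by omega) _
      · obtain ⟨j, rfl⟩ : ∃ j, l = j + 1 := ⟨l - 1, by omega⟩
        rw [pow_succ', ← mul_assoc, hba]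
        exact hgenA (by omega) _
  have hpart : ∀ z ∈ low t, ∃ k, part ι g g z = ι k := by
    intro z hz
    induction hz using AddSubgroup.closure_induction with
    | mem w hw =>
      obtain ⟨j, hj, k, rfl | rfl⟩ := hw
      · cases j with
        | zero => exact ⟨k, by
            rw [pow_zero, mul_one]
            exact (part_of_slot ι g (show InSlot ι g g (ι k) by
              show ι k * ι g = ι g * ι k
              rw [← map_mul, ← map_mul, mul_comm])).trans (if_pos rfl)⟩
        | succ j => exact ⟨0, by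
            rw [map_zero, part_of_slot ι g (inSlot_smul ι g (P.slot_powA (j + 1) g : InSlot ι g _ _) k),
              if_neg (P.ord_min (Nat.succ_pos j) hj)]⟩
      · cases j with
        | zero => exact ⟨k, by
            rw [pow_zero, mul_one]
            exact (part_of_slot ι g (show InSlot ι g g (ι k) by
              show ι k * ι g = ι g * ι k
              rw [← map_mul, ← map_mul, mul_comm])).trans (if_pos rfl)⟩
        | succ j => exact ⟨0, by
            rw [map_zero, part_of_slot ι g (inSlot_smul ι g (P.slot_powB (j + 1) g : InSlot ι g _ _) k), if_neg]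
            intro e
            refine P.ord_min (Nat.succ_pos j) hj ?_
            have e1 := P.iterate_inv (j + 1) g
            exact ((ρ.injective.iterate (j + 1)) (e.trans e1.symm)).symm⟩
    | zero => exact ⟨0, by rw [map_zero, part_zero]⟩
    | add x y _ _ hx hy =>
      obtain ⟨k, hk⟩ := hx
      obtain ⟨k', hk'⟩ := hy
      exact ⟨k + k', by rw [part_add, hk, hk', map_add]⟩
    | neg x _ hx =>
      obtain ⟨k, hk⟩ := hx
      exact ⟨-k, by rw [show part ι g g (-x) = -part ι g g x from map_neg (partHom ι g g) x, hk, map_neg]⟩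
  obtain ⟨k₀, hk₀⟩ := hpart _ (hpow t P.ord_spec.1)
  have hmem : part ι g g ((a + b) ^ t) ∈ J := by
    have h1 := pair_mem p hg h hKJ (h.pow_mem P.mem t) (τ := RingHom.id K) (c := g) (c' := g) rfl rfl
    rwa [if_pos rfl] at h1
  obtain ⟨k₃, hk₃⟩ := hmax _ hmem fun k => by
    by_cases h0 : part ι g g ((a + b) ^ t) = 0
    · rw [h0, mul_zero, zero_mul]
    obtain ⟨τ, hτ, hτ'⟩ := exists_twist hg (part_mem ι g g ((a + b) ^ t)) h0
    rw [hτ' _ (part_mem ι g g _) k, hg.hom_ext (τ := τ) (τ' := RingHom.id K) hτ k]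
    rfl
  have hA : InSlot ι g g (a ^ t) := by
    show a ^ t * ι g = ι g * a ^ t
    rw [P.slot_powA, P.ord_spec.2]
  have hB : InSlot ι g g (b ^ t) := by
    show b ^ t * ι g = ι g * b ^ t
    rw [P.slot_powB, P.perB hg]
  have e : part ι g g ((a + b) ^ t) = ι k₀ + (a ^ t + b ^ t) := by
    conv_lhs => rw [show (a + b) ^ t = ((a + b) ^ t - a ^ t - b ^ t) + (a ^ t + b ^ t) by abel]
    rw [part_add, hk₀, part_add, part_of_slot ι g hA, part_of_slot ι g hB, if_pos rfl, if_pos rfl]
  refine ⟨k₃ - k₀, by rw [map_sub, ← hk₃, e, add_sub_cancel_left], ?_⟩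
  have hs : a ^ t + b ^ t = ι (k₃ - k₀) := by rw [map_sub, ← hk₃, e, add_sub_cancel_left]
  have hc : Commute a (a ^ t + b ^ t) := (Commute.self_pow a t).add_right (P.commute_pow hg).2
  rw [hs] at hc
  have h1 := hc.eq
  rw [P.twA] at h1
  exact sub_eq_zero.1 (P.eq_zero_of_smul_a (by rw [map_sub, sub_mul, h1, sub_self]))

/-- There is no simple module on which `a` is invertible. -/
theorem Pair.false_of_module (hg : Gen g) (h : Closed J) (hKJ : ∀ k, ι k ∈ J) (p : ℕ) [Fact p.Prime]
    [Algebra (ZMod p) K] (hmax : ∀ z ∈ J, (∀ k, ι k * z = z * ι k) → ∃ k, z = ι k)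
    {Q : Type w} [Ring Q] [Finite Q] {N : Type w} [AddCommGroup N] [Finite N] [Module Q N] [IsSimpleModule Q N]
    [FaithfulSMul Q N] (φ : genRing ι a b →+* Q) (hφ : Function.Surjective φ)
    (hu : IsUnit (φ ⟨a, mem_genRing_a⟩)) : False := by
  classical
  set t := P.ord with ht
  obtain ⟨s, hs, hsσ⟩ := P.exists_sum hg h hKJ p hmax
  obtain ⟨nrm, hnrm⟩ := P.pow_mul_pow t
  obtain ⟨k₁, hab⟩ := P.prodA
  obtain ⟨k₂, hba⟩ := P.prodB
  set A : (genRing ι a b) := ⟨a, mem_genRing_a⟩
  set B : (genRing ι a b) := ⟨b, mem_genRing_b⟩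
  let ι₀ : K →+* (genRing ι a b) := ι.codRestrict (genRing ι a b) fun k => mem_genRing_K k
  set ι' : K →+* Q := φ.comp ι₀
  set α := φ A
  set β := φ B
  have htw : ∀ k, α * ι' k = ι' (σ k) * α := fun k => by
    show φ A * φ (ι₀ k) = φ (ι₀ (σ k)) * φ A
    rw [← map_mul, ← map_mul]
    exact congrArg φ (Subtype.ext (P.twA k))
  have hαβ : α * β = ι' k₁ := by
    show φ A * φ B = φ (ι₀ k₁)
    rw [← map_mul]
    exact congrArg φ (Subtype.ext hab)
  have hsum : α ^ t + β ^ t = ι' s := by
    show φ A ^ t + φ B ^ t = φ (ι₀ s)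
    rw [← map_pow, ← map_pow, ← map_add]
    exact congrArg φ (Subtype.ext hs)
  have hmul : α ^ t * β ^ t = ι' nrm := by
    show φ A ^ t * φ B ^ t = φ (ι₀ nrm)
    rw [← map_pow, ← map_pow, ← map_mul]
    exact congrArg φ (Subtype.ext hnrm)
  have hquad : α ^ t * α ^ t = ι' s * α ^ t - ι' nrm := by
    rw [← hsum, ← hmul, add_mul]
    have hcomm : Commute (α ^ t) (β ^ t) := by
      show φ A ^ t * φ B ^ t = φ B ^ t * φ A ^ t
      rw [← map_pow, ← map_pow, ← map_mul, ← map_mul]
      exact congrArg φ (Subtype.ext ((P.commute_pow hg).1.pow_right t).eq)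
    rw [hcomm.eq, add_sub_cancel_right]
  have hcT : ∀ k, α ^ t * ι' k = ι' k * α ^ t := fun k => by
    show φ A ^ t * φ (ι₀ k) = φ (ι₀ k) * φ A ^ t
    rw [← map_pow, ← map_mul, ← map_mul]
    exact congrArg φ (Subtype.ext (by
      show a ^ t * ι k = ι k * a ^ t
      rw [P.slot_powA, P.per hg]))
  -- the spanning set
  set Sp : AddSubgroup Q := AddSubgroup.closure {z | ∃ l < t, ∃ k k', z = (ι' k + ι' k' * α ^ t) * α ^ l} with hSp
  have hSgen : ∀ {l : ℕ}, l < t → ∀ k k', (ι' k + ι' k' * α ^ t) * α ^ l ∈ Sp := fun hl k k' =>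
    AddSubgroup.subset_closure ⟨_, hl, k, k', rfl⟩
  have hSK : ∀ k, ∀ z ∈ Sp, ι' k * z ∈ Sp := by
    intro k z hz
    induction hz using AddSubgroup.closure_induction with
    | mem w hw =>
      obtain ⟨l, hl, x, x', rfl⟩ := hw
      rw [← mul_assoc, mul_add, ← mul_assoc, ← map_mul, ← map_mul]
      exact hSgen hl _ _
    | zero => rw [mul_zero]; exact zero_mem _
    | add x y _ _ hx hy => rw [mul_add]; exact add_mem hx hy
    | neg x _ hx => rw [mul_neg]; exact neg_mem hx
  have hSA : ∀ z ∈ Sp, α * z ∈ Sp := by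
    intro z hz
    induction hz using AddSubgroup.closure_induction with
    | mem w hw =>
      obtain ⟨l, hl, x, x', rfl⟩ := hw
      have e : α * ((ι' x + ι' x' * α ^ t) * α ^ l) = (ι' (σ x) + ι' (σ x') * α ^ t) * α ^ (l + 1) := by
        rw [pow_succ', ← mul_assoc, ← mul_assoc, mul_add, htw, ← mul_assoc, htw, mul_assoc (ι' (σ x')),
          (Commute.self_pow α t).eq, ← mul_assoc, ← add_mul, mul_assoc]
      rw [e]
      by_cases hl' : l + 1 < t
      · exact hSgen hl' _ _
      · have e' : (ι' (σ x) + ι' (σ x') * α ^ t) * α ^ (l + 1) =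
            (ι' (-(σ x' * nrm)) + ι' (σ x + σ x' * s) * α ^ t) * α ^ 0 := by
          rw [show l + 1 = t by omega, pow_zero, mul_one, add_mul, mul_assoc, hquad, mul_sub, ← mul_assoc,
            ← map_mul, ← map_mul, map_neg, map_add, add_mul]
          abel
        rw [e']
        exact hSgen P.ord_spec.1 _ _
    | zero => rw [mul_zero]; exact zero_mem _
    | add x y _ _ hx hy => rw [mul_add]; exact add_mem hx hy
    | neg x _ hx => rw [mul_neg]; exact neg_mem hx
  have h1Sp : (1 : Q) ∈ Sp := by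
    simpa using hSgen (l := 0) P.ord_spec.1 1 0
  let pres : Subring Q :=
    { carrier := {x | ∀ z ∈ Sp, x * z ∈ Sp}
      one_mem' := fun z hz => by rw [one_mul]; exact hz
      mul_mem' := fun {x y} hx hy z hz => by rw [mul_assoc]; exact hx _ (hy z hz)
      zero_mem' := fun z _ => by rw [zero_mul]; exact zero_mem _
      add_mem' := fun {x y} hx hy z hz => by rw [add_mul]; exact add_mem (hx z hz) (hy z hz)
      neg_mem' := fun {x} hx z hz => by rw [neg_mul]; exact neg_mem (hx z hz) }
  have hpa : α ∈ pres := hSA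
  have hpinv : Ring.inverse α ∈ pres := by
    obtain ⟨u, hu'⟩ := hu
    obtain ⟨n, hn, hun⟩ := (isOfFinOrder_of_finite u).exists_pow_eq_one
    have e : Ring.inverse α = α ^ (n - 1) := by
      rw [show α = (u : Q) from hu'.symm, Ring.inverse_unit, ← Units.val_pow_eq_pow_val]
      congr 1
      rw [inv_eq_iff_mul_eq_one, ← pow_succ', Nat.sub_add_cancel hn, hun]
    rw [e]
    exact pow_mem hpa _
  have hpb : β ∈ pres := by
    have e : β = Ring.inverse α * ι' k₁ := by rw [← hαβ, Ring.inverse_mul_cancel_left _ _ hu]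
    rw [e]
    exact mul_mem hpinv (hSK k₁)
  have hall : ∀ x : Q, x ∈ Sp := by
    intro x
    obtain ⟨⟨r, hr⟩, rfl⟩ := hφ x
    have h2 : φ ⟨r, hr⟩ ∈ pres := by
      induction hr using Subring.closure_induction with
      | mem w hw =>
        rcases hw with ⟨k, rfl⟩ | hw
        · exact hSK k
        · rcases hw with rfl | hw
          · exact hpa
          · rw [Set.mem_singleton_iff] at hw
            subst hw
            exact hpb
      | zero => exact (map_zero φ).symm ▸ pres.zero_mem
      | one => exact (map_one φ).symm ▸ pres.one_mem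
      | add x y hx hy ihx ihy =>
        rw [show (⟨x + y, _⟩ : (genRing ι a b)) = ⟨x, hx⟩ + ⟨y, hy⟩ from rfl, map_add]
        exact add_mem ihx ihy
      | neg x hx ihx =>
        rw [show (⟨-x, _⟩ : (genRing ι a b)) = -⟨x, hx⟩ from rfl, map_neg]
        exact neg_mem ihx
      | mul x y hx hy ihx ihy =>
        rw [show (⟨x * y, _⟩ : (genRing ι a b)) = ⟨x, hx⟩ * ⟨y, hy⟩ from rfl, map_mul]
        exact mul_mem ihx ihy
    simpa using h2 1 h1Sp
  have TW : Twisted ι' α σ t :=
    { pos := P.ord_spec.1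
      per := P.per hg
      min := fun l h0 hl => ⟨g, P.ord_min h0 hl⟩
      twist := htw
      isUnit := hu
      span := fun x => by
        induction hall x using AddSubgroup.closure_induction with
        | mem w hw =>
          obtain ⟨l, hl, k, k', rfl⟩ := hw
          refine ⟨fun j => if j = l then k else 0, fun j => if j = l then k' else 0, ?_⟩
          rw [Finset.sum_eq_single l (fun j _ hj => by simp [hj]) (fun hh => absurd (Finset.mem_range.2 hl) hh)]
          simp
        | zero => exact ⟨0, 0, by simp⟩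
        | add x y _ _ hx hy =>
          obtain ⟨f, f', rfl⟩ := hx
          obtain ⟨e, e', rfl⟩ := hy
          refine ⟨f + e, f' + e', ?_⟩
          rw [← Finset.sum_add_distrib]
          exact Finset.sum_congr rfl fun l _ => by simp [add_mul]; abel
        | neg x _ hx =>
          obtain ⟨f, f', rfl⟩ := hx
          refine ⟨-f, -f', ?_⟩
          rw [← Finset.sum_neg_distrib]
          exact Finset.sum_congr rfl fun l _ => by simp [add_mul]; abel }
  obtain ⟨hN2, hN1⟩ := TW.card_module (N := N)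
  haveI : Nontrivial N := IsSimpleModule.nontrivial Q N
  haveI : Nontrivial E := ⟨⟨a, 0, P.a0⟩⟩
  obtain ⟨v, hv⟩ := exists_ne (0 : N)
  -- evaluation at `v` separates the elements of `J` in `(genRing ι a b)`
  have hinj : ∀ z z' : (genRing ι a b), (z : E) ∈ J → (z' : E) ∈ J → φ z • v = φ z' • v → z = z' := by
    intro z z' hz hz' e
    by_contra hne
    have hu0 := h.unit _ (sub_mem hz hz') (fun e' => hne (Subtype.ext (sub_eq_zero.1 e')))
    have hu1 : IsUnit (z - z') := by
      obtain ⟨u, hu'⟩ := hu0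
      obtain ⟨n, hn, hun⟩ := (isOfFinOrder_of_finite u).exists_pow_eq_one
      refine IsUnit.of_pow_eq_one (n := n) ?_ hn.ne'
      refine Subtype.ext ?_
      show ((z : E) - z') ^ n = 1
      rw [← hu', ← Units.val_pow_eq_pow_val, hun]
      rfl
    obtain ⟨u, hu'⟩ := hu1.map φ
    have e2 : φ (z - z') • v = 0 := by rw [map_sub, sub_smul, e, sub_self]
    rw [← hu'] at e2
    have e3 := congrArg (fun m => (↑u⁻¹ : Q) • m) e2
    simp only [smul_smul, Units.inv_mul, one_smul, smul_zero] at e3
    exact hv e3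
  letI : Fintype N := Fintype.ofFinite N
  have hga : g ≠ σ g := Ne.symm P.moves
  have hgb : g ≠ ρ g := fun e => P.moves (by rw [e, P.inv_right]; exact e)
  have hKslot : ∀ k, InSlot ι g g (ι k) := fun k => by
    show ι k * ι g = ι g * ι k
    rw [← map_mul, ← map_mul, mul_comm]
  by_cases hT : α ^ t ∈ Set.range ι'
  · have hb : Function.Bijective fun k : K => φ (ι₀ k) • v := by
      refine (Fintype.bijective_iff_injective_and_card _).2 ⟨fun k k' e => ?_, ?_⟩
      · exact ι.injective (congrArg Subtype.val (hinj (ι₀ k) (ι₀ k') (hKJ k) (hKJ k') e))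
      · refine le_antisymm (Fintype.card_le_of_injective _ fun k k' e =>
          ι.injective (congrArg Subtype.val (hinj (ι₀ k) (ι₀ k') (hKJ k) (hKJ k') e))) ?_
        have := hN1 hT
        rwa [Nat.card_eq_fintype_card, Nat.card_eq_fintype_card] at this
    obtain ⟨k, hk⟩ := hb.2 (φ (A + B) • v)
    have e : ι k = a + b := congrArg Subtype.val (hinj (ι₀ k) (A + B) (hKJ k) P.mem hk)
    refine P.a0 ?_
    have e1 := congrArg (part ι g (σ g)) e
    rw [part_of_slot ι g (hKslot k), if_neg hga, part_add, part_of_slot ι g P.slotA, if_pos rfl,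
      part_of_slot ι g P.slotB] at e1
    split_ifs at e1 with e2
    · rcases P.single' (by rw [← e2, P.inv_right]) with hb0 | ha0
      · rw [hb0, add_zero] at e1; exact e1.symm
      · exact ha0
    · rw [add_zero] at e1; exact e1.symm
  have hσσ : σ (σ g) ≠ g := by
    intro e
    refine hT ⟨s, ?_⟩
    rcases P.single' e with hb0 | ha0
    · have e1 : β = 0 := (congrArg φ (Subtype.ext hb0 : B = 0)).trans (map_zero φ)
      rw [← hsum, e1, zero_pow P.ord_spec.1.ne', add_zero]
    · exact absurd ha0 P.a0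
  let W : K × K → (genRing ι a b) := fun x => ι₀ x.1 + (ι₀ x.2 * A + ι₀ (ρ x.2) * B)
  have hWJ : ∀ x, (W x : E) ∈ J := fun x => add_mem (hKJ x.1) (P.scal hσσ x.2)
  have hab' : σ g ≠ ρ g := fun e => hσσ (by rw [e, P.inv_right])
  have hWpart : ∀ x, part ι g g (W x : E) = ι x.1 ∧ part ι g (σ g) (W x : E) = ι x.2 * a ∧
      part ι g (ρ g) (W x : E) = ι (ρ x.2) * b ∧
      ∀ c, c ≠ g → c ≠ σ g → c ≠ ρ g → part ι g c (W x : E) = 0 := by
    intro x
    have e : (W x : E) = ι x.1 + (ι x.2 * a + ι (ρ x.2) * b) := rfl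
    refine ⟨?_, ?_, ?_, fun c h1 h2 h3 => ?_⟩ <;>
      rw [e, part_add, part_add, part_of_slot ι g (hKslot _), part_of_slot ι g (inSlot_smul ι g P.slotA _),
        part_of_slot ι g (inSlot_smul ι g P.slotB _)]
    · rw [if_pos rfl, if_neg hga.symm, if_neg hgb.symm, add_zero, add_zero]
    · rw [if_neg hga, if_pos rfl, if_neg hab'.symm, zero_add, add_zero]
    · rw [if_neg hgb, if_neg hab', if_pos rfl, zero_add, zero_add]
    · rw [if_neg h1.symm, if_neg h2.symm, if_neg h3.symm, zero_add, zero_add]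
  have hWinj : Function.Injective fun x => φ (W x) • v := by
    intro x x' e
    have e0 : (W x : E) = W x' := congrArg Subtype.val (hinj _ _ (hWJ x) (hWJ x') e)
    refine Prod.ext (ι.injective ?_) ?_
    · rw [← (hWpart x).1, e0, (hWpart x').1]
    · refine sub_eq_zero.1 (P.eq_zero_of_smul_a ?_)
      rw [map_sub, sub_mul, ← (hWpart x).2.1, e0, (hWpart x').2.1, sub_self]
  have hWb : Function.Bijective fun x => φ (W x) • v := by
    refine (Fintype.bijective_iff_injective_and_card _).2 ⟨hWinj, le_antisymm (Fintype.card_le_of_injective _ hWinj) ?_⟩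
    rw [← Nat.card_eq_fintype_card, ← Nat.card_eq_fintype_card, Nat.card_prod, ← sq]
    exact hN2
  obtain ⟨x, hx⟩ := hWb.2 (φ ((A + B) * (A + B)) • v)
  have hsq : (a + b) * (a + b) ∈ J := h.mul_mem P.mem P.mem (Commute.refl _)
  have e : (W x : E) = (a + b) * (a + b) := congrArg Subtype.val (hinj _ _ (hWJ x) hsq hx)
  obtain ⟨-, -, hWb', hWo⟩ := hWpart x
  set e2 := σ (σ g) with he2
  have hne1 : e2 ≠ σ g := fun h' => P.moves (σ.injective h')
  have hA2 : InSlot ι g e2 (a * a) := InSlot.mul P.twA P.slotA P.slotA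
  have hB2 : InSlot ι g (ρ (ρ g)) (b * b) := InSlot.mul P.twB P.slotB P.slotB
  have epart : part ι g e2 (W x : E) = a * a + if ρ (ρ g) = e2 then b * b else 0 := by
    rw [e, show (a + b) * (a + b) = a * a + b * b + (a * b + b * a) by noncomm_ring, part_add, part_add,
      part_of_slot ι g hA2, if_pos rfl, part_of_slot ι g hB2, hab, hba, ← map_add, part_of_slot ι g (hKslot _),
      if_neg (Ne.symm hσσ), add_zero]
  have h2t : 3 ≤ t := by
    by_contra hlt
    have h0 := P.ord_spec
    rw [← ht] at h0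
    interval_cases t
    · exact absurd h0.1 (lt_irrefl 0)
    · exact P.moves h0.2
    · exact hσσ h0.2
  by_cases he : e2 = ρ g
  · -- `σ` has order three
    have h3 : σ^[3] g = g := by
      show σ (σ (σ g)) = g
      rw [← he2, he, P.inv_right]
    have ht3 : t = 3 := le_antisymm (by
      by_contra hlt
      exact P.ord_min (l := 3) (by omega) (by omega) h3) h2t
    have hne : ρ (ρ g) ≠ e2 := fun h' => hgb (ρ.injective (h'.trans he)).symm
    rw [if_neg hne, add_zero, he, hWb'] at epart
    refine hT ⟨x.2 * k₁, ?_⟩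
    rw [ht3]
    show φ (ι₀ _) = φ A ^ 3
    rw [← map_pow]
    refine congrArg φ (Subtype.ext ?_)
    show ι (x.2 * k₁) = a ^ 3
    rw [pow_succ', pow_two, ← epart, ← mul_assoc, P.twA, P.inv_right, mul_assoc, hab, map_mul]
  rw [hWo e2 hσσ hne1 he] at epart
  by_cases he' : ρ (ρ g) = e2
  · have h4 : σ^[4] g = g := by
      show σ (σ (σ (σ g))) = g
      rw [← he2, ← he', P.inv_right, P.inv_right]
    have ht4 : t = 4 := by
      have h3 : t ≤ 4 := by
        by_contra hlt
        exact P.ord_min (l := 4) (by omega) (by omega) h4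
      by_contra hne
      have h5 : σ^[3] g = g := by
        have := P.ord_spec.2
        rwa [← ht, show t = 3 by omega] at this
      exact P.moves (by
        rw [show σ^[4] g = σ (σ^[3] g) from Function.iterate_succ_apply' (⇑σ) 3 g, h5] at h4
        exact h4)
    rw [if_pos he'] at epart
    obtain ⟨n2, hn2⟩ := P.pow_mul_pow 2
    refine hT ⟨-n2, ?_⟩
    rw [ht4]
    show φ (ι₀ _) = φ A ^ 4
    rw [← map_pow]
    refine congrArg φ (Subtype.ext ?_)
    show ι (-n2) = a ^ 4
    rw [map_neg, ← hn2, ← eq_neg_of_add_eq_zero_left (a := a ^ 2 * a ^ 2) (b := a ^ 2 * b ^ 2) (by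
      rw [← mul_add, pow_two, pow_two, ← epart, mul_zero]), ← pow_add]
  · rw [if_neg he', add_zero] at epart
    refine hT ⟨0, ?_⟩
    have e0 : A * A = 0 := Subtype.ext epart.symm
    rw [map_zero, show α ^ t = φ (A * A) * α ^ (t - 2) by rw [map_mul, ← pow_two, ← pow_add, show 2 + (t - 2) = t by omega],
      e0, map_zero, zero_mul]

omit [Finite E] in
theorem Pair.swap (hb : b ≠ 0) : Pair J ι g ρ σ b a :=
  { inv_left := P.inv_right
    inv_right := P.inv_left
    moves := fun e => P.moves (by conv_rhs => rw [← P.inv_right g]; rw [e])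
    twA := P.twB
    twB := P.twA
    a0 := hb
    prodA := P.prodB
    prodB := P.prodA
    mem := by rw [add_comm]; exact P.mem
    scal := fun hne l => by
      rw [add_comm]
      have h1 := P.scal (fun e => hne (by
        conv_lhs => rw [← e]
        rw [P.inv_left, P.inv_left])) (σ l)
      rwa [P.inv_left] at h1
    single := fun e => (P.single (by
      conv_lhs => rw [← e]
      rw [P.inv_right, P.inv_right])).symm
    single' := fun e => (P.single' (by
      conv_lhs => rw [← e]
      rw [P.inv_right, P.inv_right])).symm }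

/-- There is no pair. -/
theorem Pair.false [Nontrivial E] (hg : Gen g) (h : Closed J) (hKJ : ∀ k, ι k ∈ J) (p : ℕ) [Fact p.Prime]
    [Algebra (ZMod p) K] (hmax : ∀ z ∈ J, (∀ k, ι k * z = z * ι k) → ∃ k, z = ι k) : False := by
  classical
  set R := genRing ι a b
  set A : R := ⟨a, mem_genRing_a⟩
  set B : R := ⟨b, mem_genRing_b⟩
  obtain ⟨m, hm⟩ := Ideal.exists_maximal R
  let φ : R →+* AddMonoid.End (R ⧸ m) := Module.toAddMonoidEnd R (R ⧸ m)
  set Q := φ.range
  haveI : IsSimpleModule R (R ⧸ m) := isSimpleModule_iff_isCoatom.2 hm.out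
  have hsim : IsSimpleModule Q (R ⧸ m) := by
    have h0 := isSimpleModule_iff_toSpanSingleton_surjective.1 (inferInstance : IsSimpleModule R (R ⧸ m))
    refine isSimpleModule_iff_toSpanSingleton_surjective.2 ⟨h0.1, fun x hx y => ?_⟩
    obtain ⟨r, hr⟩ := h0.2 x hx y
    exact ⟨φ.rangeRestrict r, hr⟩
  haveI : FaithfulSMul Q (R ⧸ m) := ⟨fun {x y} e => Subtype.ext (AddMonoidHom.ext e)⟩
  haveI : Finite (R ⧸ m) := Quotient.finite _
  haveI : Finite (AddMonoid.End (R ⧸ m)) :=
    Finite.of_injective (fun f : AddMonoid.End (R ⧸ m) => (f : R ⧸ m → R ⧸ m)) DFunLike.coe_injective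
  haveI : Nontrivial Q := by
    haveI : Nontrivial (R ⧸ m) := IsSimpleModule.nontrivial R (R ⧸ m)
    obtain ⟨n, hn⟩ := exists_ne (0 : R ⧸ m)
    exact ⟨⟨0, 1, fun e => hn ((one_smul Q n).symm.trans ((congrArg (fun q : Q => q • n) e.symm).trans (zero_smul Q n)))⟩⟩
  obtain ⟨s, hs, -⟩ := P.exists_sum hg h hKJ p hmax
  obtain ⟨k₁, hab⟩ := P.prodA
  obtain ⟨k₂, hba⟩ := P.prodB
  have hUK : ∀ k : K, k ≠ 0 → IsUnit (⟨ι k, mem_genRing_K k⟩ : R) := fun k hk =>
    ⟨⟨⟨ι k, mem_genRing_K k⟩, ⟨ι k⁻¹, mem_genRing_K _⟩,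
      Subtype.ext (by show ι k * ι k⁻¹ = 1; rw [← map_mul, mul_inv_cancel₀ hk, map_one]),
      Subtype.ext (by show ι k⁻¹ * ι k = 1; rw [← map_mul, inv_mul_cancel₀ hk, map_one])⟩, rfl⟩
  have hφs : Function.Surjective φ.rangeRestrict := φ.rangeRestrict_surjective
  by_cases hk₁ : k₁ = 0
  swap
  · refine P.false_of_module (N := R ⧸ m) hg h hKJ p hmax φ.rangeRestrict hφs ((?_ : IsUnit A).map _)
    have h1 : IsUnit (A * B) := by
      rw [show A * B = ⟨ι k₁, mem_genRing_K k₁⟩ from Subtype.ext hab]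
      exact hUK k₁ hk₁
    exact (IsUnit.mul_iff.1 h1).1
  subst hk₁
  have hk₂ : k₂ = 0 := σ.injective ((P.twistProd hab hba).trans (map_zero σ).symm)
  subst hk₂
  rw [map_zero] at hab hba
  set t := P.ord
  have ht := P.ord_spec.1
  have hTT' : a ^ t * b ^ t = 0 ∧ b ^ t * a ^ t = 0 := by
    obtain ⟨j, hj⟩ : ∃ j, t = j + 1 := ⟨t - 1, by omega⟩
    constructor
    · rw [hj, pow_succ, pow_succ', mul_assoc, ← mul_assoc a, hab, zero_mul, mul_zero]
    · rw [hj, pow_succ, pow_succ', mul_assoc, ← mul_assoc b, hba, zero_mul, mul_zero]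
  -- `a ^ t` is central, so zero or invertible on the simple module
  have hcen : ∀ r : R, Commute (A ^ t) r := by
    rintro ⟨r, hr⟩
    refine Subtype.ext ?_
    show a ^ t * r = r * a ^ t
    induction hr using Subring.closure_induction with
    | mem w hw =>
      rcases hw with ⟨k, rfl⟩ | hw
      · rw [P.slot_powA, P.per hg]
      · rcases hw with rfl | hw
        · exact ((Commute.refl w).pow_left t).eq
        · rw [Set.mem_singleton_iff] at hw
          subst hw
          exact (P.commute_pow hg).1.eq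
    | zero => rw [mul_zero, zero_mul]
    | one => rw [mul_one, one_mul]
    | add x y _ _ hx hy => rw [mul_add, add_mul, hx, hy]
    | neg x _ hx => rw [mul_neg, neg_mul, hx]
    | mul x y _ _ hx hy => rw [← mul_assoc, hx, mul_assoc, hy, ← mul_assoc]
  let L : (R ⧸ m) →ₗ[R] (R ⧸ m) :=
    { toFun := fun n => (A ^ t) • n
      map_add' := smul_add _
      map_smul' := fun r n => by
        show (A ^ t) • r • n = r • (A ^ t) • n
        rw [smul_smul, smul_smul, (hcen r).eq] }
  rcases LinearMap.bijective_or_eq_zero L with hL | hL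
  · refine P.false_of_module (N := R ⧸ m) hg h hKJ p hmax φ.rangeRestrict hφs ?_
    have h2 : IsUnit ((φ.rangeRestrict A) ^ t) := by
      rw [← map_pow]
      set z : Q := φ.rangeRestrict (A ^ t)
      refine (Finite.injective_iff_bijective (f := fun q : Q => z * q)).1 ?_ |>.2 1 |> fun ⟨q, hq⟩ =>
        IsUnit.of_mul_eq_one (a := z) q hq
      intro q q' e
      refine eq_of_smul_eq_smul fun n : R ⧸ m => hL.1 ?_
      have e1 := congrArg (fun w : Q => w • n) e
      simp only [mul_smul] at e1
      exact e1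
    exact (isUnit_pow_iff ht.ne').1 h2
  have hs0 : s ≠ 0 := by
    intro hs0
    rw [hs0, map_zero] at hs
    have e1 : a ^ t * a ^ t = 0 := by
      rw [eq_neg_of_add_eq_zero_left hs, neg_mul_neg]
      have := hTT'.1
      rw [eq_neg_of_add_eq_zero_left hs, neg_mul, neg_eq_zero] at this
      exact this
    have e2 : b ^ t * b ^ t = 0 := by
      have := hTT'.1
      rw [eq_neg_of_add_eq_zero_left hs, neg_mul, neg_eq_zero] at this
      exact this
    have hpow : ∀ n : ℕ, (a + b) ^ (n + 1) = a ^ (n + 1) + b ^ (n + 1) := by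
      intro n
      induction n with
      | zero => simp
      | succ n ih =>
        rw [pow_succ, ih, add_mul, mul_add, mul_add, ← pow_succ, ← pow_succ, pow_succ a n, pow_succ b n,
          mul_assoc _ a b, hab, mul_assoc _ b a, hba, mul_zero, mul_zero, add_zero, zero_add]
    have e3 : (a + b) ^ (t + t) = 0 := by
      obtain ⟨j, hj⟩ : ∃ j, t + t = j + 1 := ⟨t + t - 1, by omega⟩
      rw [hj, hpow, ← hj, pow_add, pow_add, e1, e2, add_zero]
    have hy0 : a + b ≠ 0 := by
      intro e0
      refine P.a0 ?_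
      have e4 := congrArg (part ι g (σ g)) e0
      rw [part_add, part_zero, part_of_slot ι g P.slotA, if_pos rfl, part_of_slot ι g P.slotB] at e4
      split_ifs at e4 with h4
      · rcases P.single' (by rw [← h4, P.inv_right]) with hb0 | ha0
        · rwa [hb0, add_zero] at e4
        · exact ha0
      · rwa [add_zero] at e4
    have h5 := (h.unit _ P.mem hy0).pow (t + t)
    rw [e3] at h5
    exact not_isUnit_zero h5
  have hB : φ.rangeRestrict (B ^ t) = φ.rangeRestrict ⟨ι s, mem_genRing_K s⟩ := by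
    rw [show (⟨ι s, mem_genRing_K s⟩ : R) = A ^ t + B ^ t from Subtype.ext hs.symm, map_add]
    rw [show φ.rangeRestrict (A ^ t) = 0 from Subtype.ext (AddMonoidHom.ext fun n => LinearMap.congr_fun hL n),
      zero_add]
  have hb0 : b ≠ 0 := fun e => by
    have h3 : IsUnit (φ.rangeRestrict (B ^ t)) := by rw [hB]; exact (hUK s hs0).map _
    rw [show B = 0 from Subtype.ext e, zero_pow ht.ne', map_zero] at h3
    exact not_isUnit_zero h3
  refine (P.swap hb0).false_of_module (N := R ⧸ m) hg h hKJ p hmax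
    (φ.rangeRestrict.comp (Subring.inclusion (genRing_swap ι b a).le)) (fun q => ?_) ?_
  · obtain ⟨r, rfl⟩ := hφs q
    exact ⟨⟨r, by rw [genRing_swap]; exact r.2⟩, rfl⟩
  · refine (isUnit_pow_iff ht.ne').1 ?_
    show IsUnit ((φ.rangeRestrict B) ^ t)
    rw [← map_pow, hB]
    exact (hUK s hs0).map _

end Cfsg.Agent.JordanField
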