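import Cfsg.Agent.Lib.PushUp.Jordan.Slots

/-!
# The components in a pair of inverse slots lie in `J`
-/

set_option autoImplicit false

namespace Cfsg.Agent.JordanField

universe u v

variable {E : Type u} [Ring E] {K : Type v} [Field K] [Fintype K] {ι : K →+* E} {g : K} {p : ℕ} [Fact p.Prime]
  [Algebra (ZMod p) K]

/-- Multiply the component in the slot of `c` on the left by `v c`. -/
noncomputable def opv (ι : K →+* E) (g : K) (v : K → K) (z : E) : E := ∑ c : K, ι (v c) * part ι g c z

theorem part_opv (v : K → K) (d : K) (z : E) : part ι g d (opv ι g v z) = ι (v d) * part ι g d z := by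
  classical
  show partHom ι g d _ = _
  rw [opv, map_sum]
  show ∑ c : K, part ι g d (ι (v c) * part ι g c z) = _
  simp only [part_of_slot ι g (inSlot_smul ι g (part_mem ι g _ z) _), Finset.sum_ite_eq', Finset.mem_univ, if_true]

theorem opv_mul (v w : K → K) (z : E) : opv ι g (v * w) z = opv ι g v (opv ι g w z) := by
  simp only [opv, Pi.mul_apply]
  refine Finset.sum_congr rfl fun c _ => ?_
  rw [map_mul, mul_assoc]
  exact congrArg (fun x => ι (v c) * x) (part_opv w c z).symm

theorem opv_add (v w : K → K) (z : E) : opv ι g (v + w) z = opv ι g v z + opv ι g w z := by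
  simp only [opv, Pi.add_apply, map_add, add_mul, Finset.sum_add_distrib]

theorem opv_natCast (m : ℕ) (z : E) : opv ι g (fun _ => (m : K)) z = m • z := by
  rw [opv]
  simp only [map_natCast, ← nsmul_eq_mul, ← Finset.smul_sum, sum_part]

theorem opv_sum_values (z : E) : opv ι g (fun c => g + c) z = ι g * z + z * ι g := by
  simp only [opv, map_add, add_mul, Finset.sum_add_distrib]
  congr 1
  · rw [← Finset.mul_sum, sum_part]
  · conv_rhs => rw [← sum_part ι g z, Finset.sum_mul]
    exact Finset.sum_congr rfl fun c _ => (part_mem ι g c z).symm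

theorem opv_prod_values (z : E) : opv ι g (fun c => g * c) z = ι g * z * ι g := by
  conv_rhs => rw [← sum_part ι g z, Finset.mul_sum, Finset.sum_mul]
  refine Finset.sum_congr rfl fun c _ => ?_
  rw [map_mul, mul_assoc, mul_assoc]
  exact congrArg (fun x => ι g * x) (part_mem ι g c z).symm

variable (p g) in
/-- The functions available as multipliers. -/
noncomputable def vals : Subalgebra (ZMod p) (K → K) :=
  Algebra.adjoin (ZMod p) {fun c => g + c, fun c => g * c}

variable {J : AddSubgroup E} (h : Closed J) (hKJ : ∀ k, ι k ∈ J)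

omit [Fintype K] in
theorem algebraMap_fun (a : ZMod p) : algebraMap (ZMod p) (K → K) a = fun _ => ((a.val : ℕ) : K) := by
  funext c
  show algebraMap (ZMod p) K a = _
  conv_lhs => rw [← ZMod.natCast_zmod_val a, map_natCast]

include h hKJ in
theorem opv_mem {v : K → K} (hv : v ∈ vals g p) : ∀ {z : E}, z ∈ J → opv ι g v z ∈ J := by
  induction hv using Algebra.adjoin_induction with
  | mem w hw =>
    intro z hz
    simp only [Set.mem_insert_iff, Set.mem_singleton_iff] at hw
    rcases hw with rfl | rfl
    · rw [opv_sum_values]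
      have e : ι g * z + z * ι g = (ι g + 1) * z * (ι g + 1) - ι g * z * ι g - z := by noncomm_ring
      rw [e]
      exact sub_mem (sub_mem (h.tri _ (add_mem (hKJ g) h.one_mem) _ hz) (h.tri _ (hKJ g) _ hz)) hz
    · rw [opv_prod_values]
      exact h.tri _ (hKJ g) _ hz
  | algebraMap a =>
    intro z hz
    rw [algebraMap_fun, opv_natCast]
    exact AddSubgroup.nsmul_mem J hz _
  | add x y _ _ hx hy => intro z hz; rw [opv_add]; exact add_mem (hx hz) (hy hz)
  | mul x y _ _ hx hy => intro z hz; rw [opv_mul]; exact hx (hy hz)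

/-- Values at inverse slots are conjugate. -/
theorem vals_twist {c c' : K} {τ' : K →+* K} (hg' : τ' g = c') (hc : τ' c = g) {v : K → K} (hv : v ∈ vals g p) :
    v c' = τ' (v c) := by
  induction hv using Algebra.adjoin_induction with
  | mem w hw =>
    simp only [Set.mem_insert_iff, Set.mem_singleton_iff] at hw
    rcases hw with rfl | rfl
    · rw [map_add, hg', hc, add_comm]
    · rw [map_mul, hg', hc, mul_comm]
  | algebraMap a => rw [algebraMap_fun]; exact (map_natCast τ' _).symm
  | add x y _ _ hx hy => rw [Pi.add_apply, Pi.add_apply, map_add, hx, hy]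
  | mul x y _ _ hx hy => rw [Pi.mul_apply, Pi.mul_apply, map_mul, hx, hy]

variable (p g) in
/-- The values at `c`. -/
noncomputable def valField (c : K) : Subalgebra (ZMod p) K :=
  (vals g p).map (Pi.evalAlgHom (ZMod p) (fun _ : K => K) c)

/-- Slots which are not inverse are separated. -/
theorem separate (hg : Gen g) {c d : K} {τd : K →+* K} (hd : τd g = d) (hne : d ≠ c) (hp : τd c ≠ g) :
    ∃ v ∈ vals g p, v c = 1 ∧ v d = 0 := by
  classical
  by_contra hcon
  simp only [not_exists, not_and] at hcon
  set q := Fintype.card K - 1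
  have hq : q ≠ 0 := by have := Fintype.one_lt_card (α := K); omega
  have hz : ∀ v ∈ vals g p, v c = 0 → v d = 0 := fun v hv hvc => by
    by_contra hvd
    refine hcon (1 - v ^ q) (sub_mem (one_mem _) (pow_mem hv q)) ?_ ?_
    · simp [hvc, zero_pow hq]
    · simp [q, FiniteField.pow_card_sub_one_eq_one _ hvd]
  have hnz : ∀ v ∈ vals g p, v c ≠ 0 → v d ≠ 0 := fun v hv hvc hvd => by
    refine hcon (v ^ q) (pow_mem hv q) ?_ ?_
    · simp [q, FiniteField.pow_card_sub_one_eq_one _ hvc]
    · simp [hvd, zero_pow hq]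
  -- a generator of the field of values
  set L := valField g p c
  haveI : IsDomain L := inferInstance
  letI : Field L := (Finite.isField_of_domain L).toField
  obtain ⟨θ, hθ⟩ := exists_gen L
  obtain ⟨v₀, hv₀, hv₀c⟩ := Subalgebra.mem_map.1 θ.2
  change v₀ c = (θ : K) at hv₀c
  have hroot : Polynomial.aeval (v₀ d) (minpoly (ZMod p) (v₀ c)) = 0 := by
    set m := minpoly (ZMod p) (v₀ c)
    have hmem : Polynomial.aeval v₀ m ∈ vals g p := Polynomial.aeval_mem_adjoin_singleton (ZMod p) v₀ |>
      (Algebra.adjoin_le (Set.singleton_subset_iff.2 hv₀) ·)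
    have e : ∀ x : K, (Polynomial.aeval v₀ m : K → K) x = Polynomial.aeval (v₀ x) m := fun x =>
      (Polynomial.aeval_algHom_apply (Pi.evalAlgHom (ZMod p) (fun _ : K => K) x) v₀ m).symm
    rw [← e]
    refine hz _ hmem ?_
    rw [e]
    exact minpoly.aeval _ _
  obtain ⟨Φ, hΦ⟩ : ∃ Φ : K ≃ₐ[ZMod p] K, Φ (v₀ c) = v₀ d := by
    have hc1 : IsConjRoot (ZMod p) (v₀ c) (v₀ d) :=
      minpoly.eq_of_irreducible_of_monic (minpoly.irreducible (Algebra.IsIntegral.isIntegral _)) hroot
        (minpoly.monic (Algebra.IsIntegral.isIntegral _))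
    obtain ⟨Φ, hΦ⟩ := hc1.symm.exists_algEquiv
    exact ⟨Φ, hΦ⟩
  have hval : ∀ v ∈ vals g p, v d = Φ (v c) := by
    intro v hv
    by_cases hvc : v c = 0
    · rw [hvc, map_zero, hz v hv hvc]
    obtain ⟨m, hm⟩ := hθ.2 (⟨v c, Subalgebra.mem_map.2 ⟨v, hv, rfl⟩⟩ : L) (fun e => hvc (congrArg Subtype.val e))
    have e1 : (v₀ ^ m) c = v c := by
      rw [Pi.pow_apply, hv₀c]
      exact congrArg Subtype.val hm
    have e2 := hz (v - v₀ ^ m) (sub_mem hv (pow_mem hv₀ m)) (by rw [Pi.sub_apply, e1, sub_self])
    rw [Pi.sub_apply, sub_eq_zero] at e2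
    rw [e2, ← e1, Pi.pow_apply, Pi.pow_apply, map_pow, hΦ]
  have hs := hval _ (Algebra.subset_adjoin (Set.mem_insert _ _))
  have hπ := hval _ (Algebra.subset_adjoin (Set.mem_insert_of_mem _ rfl))
  rw [map_add] at hs
  rw [map_mul] at hπ
  have hroots : (Φ g - g) * (Φ g - d) = 0 := by linear_combination (Φ g) * (-1 : K) * hs + hπ
  rcases mul_eq_zero.1 hroots with h1 | h1 <;> rw [sub_eq_zero] at h1
  · rw [h1, add_right_inj] at hs
    have h2 := hg.hom_ext (τ := (Φ : K →+* K)) (τ' := RingHom.id K) h1 c
    exact hne (hs.trans h2)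
  · rw [h1, add_comm, add_right_inj] at hs
    have h2 := hg.hom_ext (τ := (Φ : K →+* K)) (τ' := τd) (h1.trans hd.symm) c
    exact hp (h2.symm.trans hs.symm)

/-- If `c` is not its own inverse, every element of `K` is a value at `c`. -/
theorem exists_val (hg : Gen g) {c : K} {τ : K →+* K} (hτ : τ g = c) (hne : τ c ≠ g) (lam : K) :
    ∃ v ∈ vals g p, v c = lam := by
  classical
  set L := valField g p c
  have hm : ∀ x : K, x ∈ L ↔ ∃ v ∈ vals g p, v c = x := fun x => Subalgebra.mem_map
  rw [← hm]
  haveI : IsDomain L := inferInstance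
  letI : Field L := (Finite.isField_of_domain L).toField
  haveI : Fintype L := Fintype.ofFinite L
  haveI : CharP K p := charP_of_injective_algebraMap' (ZMod p) p
  haveI : CharP L p := charP_of_injective_algebraMap' (ZMod p) p
  haveI : ExpChar K p := ExpChar.prime Fact.out
  obtain ⟨n, -, hn⟩ := FiniteField.card L p
  set Φ := iterateFrobenius K p n
  have hfix : ∀ v ∈ vals g p, Φ (v c) = v c := by
    intro v hv
    have hL : v c ∈ L := (hm _).2 ⟨v, hv, rfl⟩
    have e := congrArg Subtype.val (FiniteField.pow_card (⟨v c, hL⟩ : L))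
    rw [hn] at e
    rw [iterateFrobenius_def]
    exact e
  have hs := hfix _ (Algebra.subset_adjoin (Set.mem_insert _ _))
  have hπ := hfix _ (Algebra.subset_adjoin (Set.mem_insert_of_mem _ rfl))
  rw [map_add] at hs
  rw [map_mul] at hπ
  have hroots : (Φ g - g) * (Φ g - c) = 0 := by linear_combination (Φ g) * hs - hπ
  rcases mul_eq_zero.1 hroots with h1 | h1 <;> rw [sub_eq_zero] at h1
  · -- every element of `K` is a root of `X ^ |L| - X`
    have hall : ∀ k : K, k ^ Fintype.card L = k := fun k => by
      have h2 := hg.hom_ext (τ := Φ) (τ' := RingHom.id K) h1 k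
      rw [iterateFrobenius_def] at h2
      rw [hn]
      exact h2
    have hle : Fintype.card K ≤ Fintype.card L := by
      set P : Polynomial K := Polynomial.X ^ Fintype.card L - Polynomial.X
      have hd : P.natDegree = Fintype.card L := FiniteField.X_pow_card_sub_X_natDegree_eq K Fintype.one_lt_card
      have hP : P ≠ 0 := FiniteField.X_pow_card_sub_X_ne_zero K Fintype.one_lt_card
      have h2 : (Finset.univ : Finset K).val ⊆ P.roots := fun k _ => by
        rw [Polynomial.mem_roots hP]
        simp [P, hall k]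
      have h3 := (Polynomial.card_le_degree_of_subset_roots h2).trans_eq hd
      simpa using h3
    have htop : (L : Set K) = Set.univ := Set.eq_of_subset_of_ncard_le (Set.subset_univ _) (by
      rw [Set.ncard_univ, ← Nat.card_coe_set_eq, Nat.card_eq_fintype_card]
      exact hle.trans_eq (Nat.card_eq_fintype_card (α := L)).symm) (Set.toFinite _)
    exact htop.ge (Set.mem_univ lam)
  · have h2 := hg.hom_ext (τ := Φ) (τ' := τ) (h1.trans hτ.symm) c
    rw [h1, h2, add_comm g c, add_right_inj] at hs
    exact absurd hs hne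

variable (p) in
include p in
/-- The component in a pair of inverse slots lies in `J`. -/
theorem pair_mem [DecidableEq K] (hg : Gen g) (hh : Closed J) (hK : ∀ k, ι k ∈ J) {z : E} (hz : z ∈ J) {c c' : K}
    {τ : K →+* K} (hτ : τ g = c) (hc' : τ c' = g) :
    (if c' = c then part ι g c z else part ι g c z + part ι g c' z) ∈ J := by
  classical
  have hsep : ∀ d : K, d ≠ c → d ≠ c' → ∃ v ∈ vals g p, v c = 1 ∧ (part ι g d z ≠ 0 → v d = 0) := by
    intro d hdc hdc'
    by_cases h0 : part ι g d z = 0
    · exact ⟨1, one_mem _, rfl, fun h => absurd h0 h⟩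
    obtain ⟨τd, hd, -⟩ := exists_twist hg (part_mem ι g d z) h0
    obtain ⟨v, hv, h1, h2⟩ := separate (p := p) hg hd hdc fun e => hdc' (τ.injective (by
      rw [hc', ← hd]
      exact twist_comp_comm hg (τ := τ) (τ' := τd) (by rw [hτ, e])))
    exact ⟨v, hv, h1, fun _ => h2⟩
  choose f hf hfc hfd using hsep
  set v : K → K := ∏ d : K, if hh : d ≠ c ∧ d ≠ c' then f d hh.1 hh.2 else 1 with hvdef
  have hv : v ∈ vals g p := Subalgebra.prod_mem _ fun d _ => by
    split_ifs with hh
    · exact hf d hh.1 hh.2
    · exact one_mem _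
  have hvc : v c = 1 := by
    rw [hvdef, Finset.prod_apply]
    refine Finset.prod_eq_one fun d _ => ?_
    split_ifs with hh
    · exact hfc d hh.1 hh.2
    · rfl
  have hvd : ∀ d, d ≠ c → d ≠ c' → part ι g d z ≠ 0 → v d = 0 := fun d hdc hdc' h0 => by
    rw [hvdef, Finset.prod_apply]
    refine Finset.prod_eq_zero (Finset.mem_univ d) ?_
    rw [dif_pos (And.intro hdc hdc')]
    exact hfd d hdc hdc' h0
  have hvc' : ι (v c') * part ι g c' z = part ι g c' z := by
    by_cases h0 : part ι g c' z = 0
    · rw [h0, mul_zero]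
    obtain ⟨τ', hτ', -⟩ := exists_twist hg (part_mem ι g c' z) h0
    have e : τ' c = g := by
      rw [← hτ]
      exact twist_comp_comm hg (τ := τ') (τ' := τ) (by rw [hτ', hc'])
    rw [vals_twist hτ' e hv, hvc, map_one, map_one, one_mul]
  have h1 := opv_mem hh hK hv hz
  have h2 : ∀ d, d ≠ c → d ≠ c' → ι (v d) * part ι g d z = 0 := fun d hdc hdc' => by
    by_cases h0 : part ι g d z = 0
    · rw [h0, mul_zero]
    · rw [hvd d hdc hdc' h0, map_zero, zero_mul]
  have h3 : opv ι g v z = if c' = c then part ι g c z else part ι g c z + part ι g c' z := by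
    split_ifs with e
    · rw [opv, Finset.sum_eq_single c (fun d _ hd => h2 d hd (by rw [e]; exact hd))
        (fun h => absurd (Finset.mem_univ c) h), hvc, map_one, one_mul]
    · rw [opv, Finset.sum_eq_add c c' (Ne.symm e) (fun d _ hd => h2 d hd.1 hd.2)
        (fun h => absurd (Finset.mem_univ c) h) (fun h => absurd (Finset.mem_univ c') h), hvc, map_one, one_mul,
        hvc']
  rw [← h3]
  exact h1

end Cfsg.Agent.JordanField
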