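import Cfsg.Agent.Lib.PushUp.Jordan.Basic

/-!
# Decomposing a ring under left and right multiplication by a finite field

`g` generates the units of the finite field `K ≤ E`. The slot of `c` consists of the `z` with `z g = c z`; `E` is the
sum of the slots. The polynomials in `z ↦ g z + z g` and `z ↦ g z g` preserve `J` and separate the unordered pairs
of inverse slots.
-/

set_option autoImplicit false

namespace Cfsg.Agent.JordanField

open Polynomial

universe u v

variable {E : Type u} [Ring E] {K : Type v} [Field K] [Finite K] (ι : K →+* E) (g : K)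

/-- `g` generates the units. -/
def Gen (g : K) : Prop := g ≠ 0 ∧ ∀ k : K, k ≠ 0 → ∃ m : ℕ, g ^ m = k

theorem exists_gen (K : Type v) [Field K] [Finite K] : ∃ g : K, Gen g := by
  obtain ⟨u, hu⟩ := IsCyclic.exists_generator (α := Kˣ)
  refine ⟨u, u.ne_zero, fun k hk => ?_⟩
  obtain ⟨m, hm⟩ := (mem_powers_iff_mem_zpowers).2 (hu (Units.mk0 k hk))
  exact ⟨m, by simpa using congrArg Units.val hm⟩

/-- Left multiplication. -/
noncomputable def lefts : K →+* AddMonoid.End E where
  toFun a := AddMonoidHom.mulLeft (ι a)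
  map_one' := AddMonoidHom.ext fun x => show ι 1 * x = x by rw [map_one, one_mul]
  map_mul' a b := AddMonoidHom.ext fun x => show ι (a * b) * x = ι a * (ι b * x) by rw [map_mul, mul_assoc]
  map_zero' := AddMonoidHom.ext fun x => show ι 0 * x = 0 by rw [map_zero, zero_mul]
  map_add' a b := AddMonoidHom.ext fun x => show ι (a + b) * x = ι a * x + ι b * x by rw [map_add, add_mul]

/-- Left coefficients, the variable acting by right multiplication with `g`. -/
noncomputable def polyOp : K[X] →+* AddMonoid.End E :=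
  eval₂RingHom' (lefts ι) (AddMonoidHom.mulRight (ι g) : E →+ E) fun a =>
    AddMonoidHom.ext fun x => (mul_assoc (ι a) x (ι g)).symm

theorem polyOp_C (a : K) (z : E) : polyOp ι g (C a) z = ι a * z := by
  rw [show polyOp ι g (C a) = lefts ι a from eval₂_C ..]
  rfl

theorem polyOp_X (z : E) : polyOp ι g X z = z * ι g := by
  rw [show polyOp ι g X = (AddMonoidHom.mulRight (ι g) : E →+ E) from eval₂_X ..]
  rfl

theorem polyOp_X_pow (n : ℕ) (z : E) : polyOp ι g (X ^ n) z = z * ι (g ^ n) := by
  induction n generalizing z with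
  | zero => rw [pow_zero, pow_zero, map_one, map_one, mul_one]; rfl
  | succ n ih =>
    rw [pow_succ, map_mul, pow_succ', map_mul, ← mul_assoc]
    show polyOp ι g (X ^ n) (polyOp ι g X z) = _
    rw [polyOp_X, ih]

theorem polyOp_eq_zero {r : K[X]} (hr : ∀ c : K, r.eval c = 0) : polyOp ι g r = 0 := by
  classical
  letI := Fintype.ofFinite K
  set q := Fintype.card K
  have hq : 1 < q := Fintype.one_lt_card
  set M : K[X] := X ^ q - X
  have hM : M.Monic := monic_X_pow_sub (by rw [degree_X]; exact_mod_cast hq)
  have hMd : M.degree = (q : WithBot ℕ) := by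
    rw [degree_sub_eq_left_of_degree_lt (by rw [degree_X, degree_X_pow]; exact_mod_cast hq), degree_X_pow]
  have h0 : r %ₘ M = 0 := by
    refine eq_zero_of_degree_lt_of_eval_finset_eq_zero (Finset.univ : Finset K) ?_ fun c _ => ?_
    · rw [Finset.card_univ]
      exact (degree_modByMonic_lt r hM).trans_eq hMd
    · have h1 := congrArg (Polynomial.eval c) (modByMonic_add_div r M)
      rw [eval_add, eval_mul, hr, show M.eval c = 0 by simp [M, q, FiniteField.pow_card],
        zero_mul, add_zero] at h1
      exact h1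
  have hM0 : polyOp ι g M = 0 := AddMonoidHom.ext fun z => by
    show polyOp ι g (X ^ q - X) z = 0
    rw [map_sub]
    show polyOp ι g (X ^ q) z - polyOp ι g X z = 0
    rw [polyOp_X_pow, polyOp_X, FiniteField.pow_card, sub_self]
  rw [← modByMonic_add_div r M, h0, zero_add, map_mul, hM0, zero_mul]

theorem polyOp_congr {r s : K[X]} (hrs : ∀ c : K, r.eval c = s.eval c) : polyOp ι g r = polyOp ι g s := by
  rw [← sub_eq_zero, ← map_sub]
  exact polyOp_eq_zero ι g fun c => by rw [eval_sub, hrs, sub_self]

/-- The component of `z` in the slot of `c`. -/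
noncomputable def part (c : K) (z : E) : E :=
  letI := Fintype.ofFinite K
  polyOp ι g (1 - (X - C c) ^ (Fintype.card K - 1)) z

/-- Membership in a slot. -/
def InSlot (c : K) (z : E) : Prop := z * ι g = ι c * z

omit [Finite K] in
theorem indicator [Fintype K] [DecidableEq K] (c d : K) :
    (1 - (X - C c) ^ (Fintype.card K - 1) : K[X]).eval d = if d = c then 1 else 0 := by
  have hq : Fintype.card K - 1 ≠ 0 := by have := Fintype.one_lt_card (α := K); omega
  split_ifs with h
  · subst h; simp [zero_pow hq]
  · simp [FiniteField.pow_card_sub_one_eq_one _ (sub_ne_zero.2 h)]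

theorem part_mem (c : K) (z : E) : InSlot ι g c (part ι g c z) := by
  classical
  letI := Fintype.ofFinite K
  show part ι g c z * ι g = ι c * part ι g c z
  unfold part
  rw [← polyOp_X ι g, ← polyOp_C ι g c]
  show (polyOp ι g X * polyOp ι g _) z = (polyOp ι g (C c) * polyOp ι g _) z
  rw [← map_mul, ← map_mul]
  refine DFunLike.congr_fun (polyOp_congr ι g fun d => ?_) z
  rw [eval_mul, eval_mul, indicator, eval_X, eval_C]
  split_ifs with h
  · rw [h]
  · rw [mul_zero, mul_zero]

theorem part_add (c : K) (z w : E) : part ι g c (z + w) = part ι g c z + part ι g c w := map_add _ z w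

theorem part_zero (c : K) : part ι g c (0 : E) = 0 := map_zero _

/-- `part c` as a homomorphism. -/
noncomputable def partHom (c : K) : E →+ E := AddMonoidHom.mk' (part ι g c) (part_add ι g c)

theorem sum_part [Fintype K] (z : E) : ∑ c : K, part ι g c z = z := by
  classical
  unfold part
  rw [Subsingleton.elim (Fintype.ofFinite K) (‹Fintype K›)]
  have h1 := map_sum (polyOp ι g) (fun c : K => (1 - (X - C c) ^ (Fintype.card K - 1) : K[X])) Finset.univ
  rw [polyOp_congr ι g (r := ∑ c : K, (1 - (X - C c) ^ (Fintype.card K - 1))) (s := 1) fun d => by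
      rw [eval_finsetSum, eval_one, Finset.sum_congr rfl fun c _ => indicator c d]
      simp,
    map_one] at h1
  exact ((congrArg (fun f : AddMonoid.End E => f z) h1).trans (AddMonoidHom.finsetSum_apply (M := E) (N := E) _ _ z)).symm

theorem polyOp_slot {c : K} {z : E} (hz : InSlot ι g c z) (r : K[X]) : polyOp ι g r z = ι (r.eval c) * z := by
  induction r using Polynomial.induction_on generalizing z with
  | C a => rw [polyOp_C, eval_C]
  | add p q hp hq =>
    rw [map_add, eval_add, map_add, add_mul]
    show polyOp ι g p z + polyOp ι g q z = _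
    rw [hp hz, hq hz]
  | monomial n a _ =>
    rw [map_mul, eval_mul, eval_C, eval_pow, eval_X]
    show polyOp ι g (C a) (polyOp ι g (X ^ (n + 1)) z) = _
    rw [polyOp_C, polyOp_X_pow]
    have : ∀ m : ℕ, z * ι (g ^ m) = ι (c ^ m) * z := fun m => by
      induction m with
      | zero => simp
      | succ m ih => rw [pow_succ, map_mul, ← mul_assoc, ih, mul_assoc, hz, ← mul_assoc, ← map_mul, ← pow_succ]
    rw [this, map_mul, mul_assoc]

theorem part_of_slot [DecidableEq K] {c d : K} {z : E} (hz : InSlot ι g d z) :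
    part ι g c z = if d = c then z else 0 := by
  letI := Fintype.ofFinite K
  unfold part
  rw [polyOp_slot ι g hz, indicator]
  split_ifs <;> simp

theorem inSlot_smul {c : K} {z : E} (hz : InSlot ι g c z) (k : K) : InSlot ι g c (ι k * z) := by
  show ι k * z * ι g = ι c * (ι k * z)
  rw [mul_assoc, hz, ← mul_assoc, ← mul_assoc, ← map_mul, ← map_mul, mul_comm]

theorem part_smul (c : K) (k : K) (z : E) : part ι g c (ι k * z) = ι k * part ι g c z := by
  classical
  letI := Fintype.ofFinite K
  conv_lhs => rw [← sum_part ι g z, Finset.mul_sum]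
  show partHom ι g c _ = _
  rw [map_sum]
  show ∑ d : K, part ι g c (ι k * part ι g d z) = _
  simp only [part_of_slot ι g (inSlot_smul ι g (part_mem ι g _ z) k), Finset.sum_ite_eq', Finset.mem_univ, if_true]

variable {ι g}

omit [Finite K] in
theorem InSlot.pow {c : K} {z : E} (hz : InSlot ι g c z) (m : ℕ) : z * ι (g ^ m) = ι (c ^ m) * z := by
  induction m with
  | zero => simp
  | succ m ih => rw [pow_succ, map_mul, ← mul_assoc, ih, mul_assoc, hz, ← mul_assoc, ← map_mul, ← pow_succ]

omit [Finite K] in
/-- A nonzero slot determines an endomorphism of `K`. -/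
theorem exists_twist (hg : Gen g) {c : K} {w : E} (hw : InSlot ι g c w) (hw0 : w ≠ 0) :
    ∃ τ : K →+* K, τ g = c ∧ ∀ z, InSlot ι g c z → ∀ k, z * ι k = ι (τ k) * z := by
  have hex : ∀ k : K, ∃ k', ∀ z, InSlot ι g c z → z * ι k = ι k' * z := by
    intro k
    by_cases hk : k = 0
    · exact ⟨0, fun z _ => by rw [hk, map_zero, mul_zero, zero_mul]⟩
    · obtain ⟨m, rfl⟩ := hg.2 k hk
      exact ⟨c ^ m, fun z hz => hz.pow m⟩
  choose t ht using hex
  have hu : ∀ k k', w * ι k = ι k' * w → t k = k' := by
    intro k k' e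
    by_contra hne
    have h1 : ι (t k - k') * w = 0 := by rw [map_sub, sub_mul, ← ht k w hw, e, sub_self]
    have h2 := congrArg (fun x => ι (t k - k')⁻¹ * x) h1
    simp only [mul_zero, ← mul_assoc, ← map_mul, inv_mul_cancel₀ (sub_ne_zero.2 hne), map_one, one_mul] at h2
    exact hw0 h2
  refine ⟨{ toFun := t, map_one' := hu 1 1 (by simp), map_zero' := hu 0 0 (by simp),
            map_mul' := fun a b => hu _ _ ?_, map_add' := fun a b => hu _ _ ?_ }, hu g c hw, fun z hz k => ht k z hz⟩
  · rw [map_mul, ← mul_assoc, ht a w hw, mul_assoc, ht b w hw, ← mul_assoc, ← map_mul]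
  · rw [map_add, mul_add, ht a w hw, ht b w hw, ← add_mul, ← map_add]

omit [Finite K] in
theorem Gen.hom_ext (hg : Gen g) {τ τ' : K →+* K} (e : τ g = τ' g) (k : K) : τ k = τ' k := by
  by_cases hk : k = 0
  · rw [hk, map_zero, map_zero]
  · obtain ⟨m, rfl⟩ := hg.2 k hk
    rw [map_pow, map_pow, e]

omit [Finite K] in
theorem InSlot.mul {c d : K} {z w : E} {τ : K →+* K} (hτ : ∀ k, z * ι k = ι (τ k) * z) (hw : InSlot ι g d w)
    (_hz : InSlot ι g c z) : InSlot ι g (τ d) (z * w) := by
  show z * w * ι g = ι (τ d) * (z * w)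
  rw [mul_assoc, hw, ← mul_assoc, hτ, mul_assoc]

theorem twist_comp_comm (hg : Gen g) {τ τ' : K →+* K} (e : τ' (τ g) = g) : τ (τ' g) = g := by
  obtain ⟨x, hx⟩ := (Finite.injective_iff_surjective.1 τ.injective) g
  have h1 : τ' (τ x) = x := hg.hom_ext (τ := τ'.comp τ) (τ' := RingHom.id K) e x
  rw [hx] at h1
  rw [h1, hx]

end Cfsg.Agent.JordanField
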